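import Cfsg.Agent.Lib.Fischer.Fi22Recog.Relators
import Cfsg.Agent.Lib.CosetEnum.Fi22Table

/-!
# A group of type M(22) is the presented group Fi22
-/

set_option autoImplicit false
set_option linter.unusedSectionVars false
set_option maxRecDepth 100000

namespace Cfsg.Lib.Fischer.Fi22Recog

open Cfsg Cfsg.Lib.Fischer Cfsg.Lib.Linear.Herm
open Cfsg.Lib.Fischer.Relations
open Cfsg.Spor

variable {G : Type*} [Group G] [Finite G] {D : Set G}
  {F : Type} [Field F] [Fintype F] {hF : Fintype.card F = 2 ^ 2}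

/-- The first generator of the presented group. -/
noncomputable def fiA : Cfsg.Spor.Fi22 := CosetEnum.Fi22Pres.numbering.gens Fi22.extra 0

theorem label_check : ∀ i < 9, ∀ j < 9,
    coxLabel Fi22.edges (CosetEnum.Fi22Pres.letter i) (CosetEnum.Fi22Pres.letter j) =
      if i = j then 1 else if joined i j then 3 else 2 := by decide +kernel

theorem extra_reverse : CosetEnum.Fi22Pres.extra.map List.reverse =
    [rep 10 [3, 2, 1, 3, 4, 5, 3, 7, 8], rep 9 [0, 1, 2, 3, 4, 5, 7], rep 9 [1, 2, 3, 4, 5, 6, 7]] := by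
  decide +kernel

theorem wordVal_eq_val (y : ℕ → G) : ∀ w : List ℕ, (∀ l ∈ w, l < 9) →
    CosetEnum.wordVal y w = val y w.reverse
  | [], _ => rfl
  | g :: t, h => by
    have hg : g < 9 := h g (by simp)
    rw [CosetEnum.wordVal, wordVal_eq_val y t fun l hl => h l (by simp [hl]), List.reverse_cons, val_append,
      CosetEnum.gen, if_neg (by simp only [CosetEnum.eps]; omega)]
    simp [val]

/-- The generators of the neighbourhood group and their transvection images. -/
theorem gen_fold {P : ℕ → Prop} (h : ∀ m n, P m → P n → P (trp m n)) : ∀ (ps : List (ℕ × ℕ)) (L : List ℕ),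
    (∀ k (hk : k < ps.length), (ps[k]).1 < L.length + k ∧ (ps[k]).2 < L.length + k) → (∀ n ∈ L, P n) →
    ∀ n ∈ ps.foldl (fun L p => L ++ [trp (L.getD p.1 0) (L.getD p.2 0)]) L, P n
  | [], _, _, hL => hL
  | p :: t, L, hb, hL => by
    rw [List.foldl_cons]
    have h0 := hb 0 (by simp)
    simp only [List.getElem_cons_zero, Nat.add_zero] at h0
    refine gen_fold h t _ (fun k hk => ?_) fun n hn => ?_
    · have := hb (k + 1) (by simpa using hk)
      simp only [List.getElem_cons_succ] at this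
      simp only [List.length_append, List.length_singleton]
      omega
    · rcases List.mem_append.1 hn with hn | hn
      · exact hL n hn
      · rw [List.mem_singleton.1 hn, List.getD_eq_getElem L 0 h0.1, List.getD_eq_getElem L 0 h0.2]
        exact h _ _ (hL _ (List.getElem_mem _)) (hL _ (List.getElem_mem _))

/-- An isomorphism carrying the class of the first generator to the class. -/
theorem exists_iso (hS : M22 D hF) {a : G} (ha : a ∈ D) :
    ∃ e : Cfsg.Spor.Fi22 ≃* G, e fiA = a := by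
  obtain ⟨b, T, hT⟩ := exists_frame hS ha
  let N := CosetEnum.Fi22Pres.numbering
  have hD := hS.trans
  obtain ⟨y, hy⟩ : ∃ y : ℕ → G, ∀ g, y g = if g < 9 then T.gen g else 1 := ⟨_, fun _ => rfl⟩
  have hy9 : ∀ g < 9, y g = T.gen g := fun g hg => by rw [hy, if_pos hg]
  have hysq : ∀ g, y g * y g = 1 := fun g => by
    rw [hy]; split
    · exact mul_self hD (T.gen_mem g (by assumption))
    · exact one_mul 1
  have hval : ∀ w : List ℕ, (∀ l ∈ w, l < 9) → val y w = val T.gen w := fun w hw =>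
    congrArg List.prod (List.map_congr_left fun l hl => hy9 l (hw l hl))
  have hrep : ∀ (n : ℕ) (w : List ℕ), (∀ l ∈ w, l < 9) → val T.gen w ^ n = 1 → val y (rep n w) = 1 := by
    intro n w hw h
    have hmem : ∀ l ∈ rep n w, l < 9 := fun l hl => by
      simp only [rep, List.mem_flatten, List.mem_replicate] at hl
      obtain ⟨u, ⟨-, rfl⟩, hl⟩ := hl
      exact hw l hl
    rw [hval _ hmem, T.val_rep hT, h]
  have hrel : ∀ r ∈ N.pairs ++ CosetEnum.Fi22Pres.extra, CosetEnum.wordVal y r = 1 := by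
    intro r hr
    rcases List.mem_append.1 hr with hr | hr
    · simp only [CosetEnum.Numbering.pairs, List.mem_flatMap, List.mem_map, List.mem_range] at hr
      obtain ⟨i, hi, j, hj, rfl⟩ := hr
      rw [CosetEnum.wordVal_replicate y i j (Nat.ne_of_lt (lt_of_lt_of_le hi (by decide)))
        (Nat.ne_of_lt (lt_of_lt_of_le hj (by decide))), hy9 i hi, hy9 j hj]
      show (T.gen i * T.gen j) ^ coxLabel Fi22.edges (CosetEnum.Fi22Pres.letter i) (CosetEnum.Fi22Pres.letter j) = 1
      rw [label_check i hi j hj]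
      split_ifs with h1 h2
      · rw [h1, pow_one, mul_self hD (T.gen_mem j hj)]
      · exact orderOf_mul hD _ _ (T.gen_mem i hi) (T.gen_mem j hj) fun hc => by
          simp [(T.commute_gen hT hi hj h1).1 hc] at h2
      · rw [((T.commute_gen hT hi hj h1).2 (by simpa using h2)).mul_pow, pow_two, pow_two,
          mul_self hD (T.gen_mem i hi), mul_self hD (T.gen_mem j hj), one_mul]
    · have hlt : ∀ r ∈ CosetEnum.Fi22Pres.extra, ∀ l ∈ r, l < 9 := by decide +kernel
      rw [wordVal_eq_val y r (hlt r hr)]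
      have hmem := List.mem_map_of_mem (f := List.reverse) hr
      rw [extra_reverse] at hmem
      simp only [List.mem_cons, List.not_mem_nil, or_false] at hmem
      rcases hmem with e | e | e <;> rw [e]
      · exact hrep _ _ (by simp) (T.rel3 hT)
      · exact hrep _ _ (by simp) (T.rel1 hT)
      · exact hrep _ _ (by simp) (T.rel2 hT)
  have h := N.lift_eq_one (by decide) y (CosetEnum.Fi22Pres.map_extra y hysq) hrel
  let φ : Cfsg.Spor.Fi22 →* G := PresentedGroup.toGroup h
  have hφ : ∀ g < 9, φ (N.gens Fi22.extra g) = T.gen g := fun g hg => by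
    rw [CosetEnum.Numbering.gens, if_pos (show g < N.k from hg)]
    show PresentedGroup.toGroup h (PresentedGroup.of (N.letter g)) = _
    rw [PresentedGroup.toGroup.of, N.num_letter g hg, hy9 g hg]
  have hgR : ∀ l < 9, T.gen l ∈ φ.range := fun l hl => ⟨_, hφ l hl⟩
  have hvR : ∀ w : List ℕ, (∀ l ∈ w, l < 9) → val T.gen w ∈ φ.range := fun w hw =>
    list_prod_mem fun z hz => by
      obtain ⟨l, hl, rfl⟩ := List.mem_map.1 hz
      exact hgR l (hw l hl)
  have hperp : ∀ n, isPt n = true → T.C.el n ∈ φ.range := by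
    intro n hn
    have hcov := genList_cover n (isPt_spec hn).2.1 hn
    rw [List.contains_eq_mem, decide_eq_true_eq] at hcov
    refine (gen_fold (P := fun m => isPt m = true ∧ T.C.el m ∈ φ.range) (fun p q hp hq => ?_) Data.genPairs
      (Data.gens ++ [Data.re.1]) (fun k hk => ?_) (fun m hm => ?_) n hcov).2
    · obtain ⟨h1, h2⟩ := T.C.conj hD hp.1 hq.1
      exact ⟨h1, h2 ▸ mul_mem (mul_mem hp.2 hq.2) hp.2⟩
    · have hz := genPairs_ok
      simp only [List.all_eq_true, Bool.and_eq_true, Nat.blt_eq] at hz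
      have := hz (Data.genPairs[k], k) (List.mem_iff_getElem.2 ⟨k, by simp [hk], by simp⟩)
      simpa [Data.gens] using this
    · rcases List.mem_append.1 hm with hm | hm
      · obtain ⟨i, hi, rfl⟩ := List.getElem_of_mem hm
        have hi7 : i < 7 := hi
        obtain ⟨-, h9, h3, h4⟩ := T.gen_inner (l := i + 2) (by
          simp only [innerLetter, Bool.and_eq_true, Nat.ble_eq, Nat.blt_eq]; omega)
        have e : genCode (i + 2) = Data.gens[i] := List.getD_eq_getElem _ _ hi
        exact ⟨e ▸ h3, e ▸ h4 ▸ hgR _ h9⟩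
      · rw [List.mem_singleton.1 hm]
        obtain ⟨-, -, -, hwe, -⟩ := Frame.inner_words
        refine ⟨by decide +kernel, ?_⟩
        rw [← T.val_third hT hwe rootE (Frame.witnesses (Data.we, Data.re) (by simp)) mv_aXE_ok]
        have hba : b * a ∈ φ.range := mul_mem (hgR 1 (by norm_num)) (hgR 0 (by norm_num))
        exact mul_mem (mul_mem hba (hvR _ (by decide +kernel))) (inv_mem hba)
  have hsur : Function.Surjective φ := by
    rw [← MonoidHom.range_eq_top]
    obtain ⟨K, hK⟩ : ∃ K, K = Subgroup.closure {x | x ∈ D ∧ x ∈ φ.range} := ⟨_, rfl⟩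
    have hKD : Cfsg.IsDSubgroup D K := hK ▸
      le_antisymm ((Subgroup.closure_le _).2 fun x hx => hx.2)
        (Subgroup.closure_mono fun x hx => ⟨hx.1, Subgroup.subset_closure hx⟩)
    have hKle : K ≤ φ.range := hK ▸ (Subgroup.closure_le _).2 fun x hx => hx.2
    have h13 : isPt 13 = true := by decide +kernel
    rcases closure_maximal hD hS.prim ⟨a, ha, T.C.el 13, T.C.mem_D h13, (T.C.mem h13).2.1.symm, (T.C.mem h13).2.2⟩
      ha K hKD (hK ▸ Subgroup.closure_mono fun x hx => ⟨hx.1, by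
        rcases eq_or_ne x a with e | hne
        · exact e ▸ hgR 0 (by norm_num)
        · obtain ⟨n, hn, rfl⟩ := T.C.surj ⟨hx.1, hne, hx.2⟩
          exact hperp n hn⟩) with h | h
    · exfalso
      have hle : Subgroup.closure {x : G | x ∈ D ∧ Commute a x} ≤ Subgroup.centralizer ({a} : Set G) :=
        (Subgroup.closure_le _).2 fun x hx => Subgroup.mem_centralizer_singleton_iff.2 hx.2.eq.symm
      have hbK : b ∈ K := hK ▸ Subgroup.subset_closure ⟨T.hbD, hgR 1 (by norm_num)⟩
      exact T.hab (Subgroup.mem_centralizer_singleton_iff.1 (hle (h ▸ hbK))).symm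
    · exact top_le_iff.1 (h ▸ hKle)
  have hinj : Function.Injective φ := by
    haveI : IsSimpleGroup Cfsg.Spor.Fi22 := CosetEnum.Fi22Pres.isFi22.1
    rw [← MonoidHom.ker_eq_bot_iff]
    refine (φ.normal_ker.eq_bot_or_eq_top).resolve_right fun hk => ne_one hD ha ?_
    rw [← T.gen_zero, ← hφ 0 (by norm_num)]
    exact φ.mem_ker.1 (hk ▸ Subgroup.mem_top _)
  exact ⟨MulEquiv.ofBijective φ ⟨hinj, hsur⟩, hφ 0 (by norm_num)⟩

/-- The hypotheses from the definition. -/
theorem m22_of_type (hD : Cfsg.IsThreeTranspositionGroup D) (hprim : Cfsg.IsPrimitiveUnderConj D)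
    (h22 : Cfsg.IsOfTypeM22 G D) :
    ∃ (F : Type) (_ : Field F) (_ : Fintype F) (hF : Fintype.card F = 2 ^ 2), M22 D hF := by
  obtain ⟨d, hd, -⟩ := hprim.2.1
  have hT : Trans D := ⟨hD.1, hD.2.1, hprim.1, hD.2.2, ⟨d, hd⟩⟩
  obtain ⟨hZ, hsep, F, i1, i2, hF, hU⟩ := m22_setup hT hprim h22
  obtain ⟨U⟩ := hU d hd
  obtain ⟨o⟩ := exists_omega hF
  obtain ⟨C, -, -⟩ := exists_chart U o
  have h13 : isPt 13 = true := by decide +kernel
  exact ⟨F, i1, i2, hF, isFischer_of_primitive hT hprim
    ⟨d, hd, C.el 13, C.mem_D h13, (C.mem h13).2.1.symm, (C.mem h13).2.2⟩ hZ, hprim, hZ, hsep, hU⟩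

/-- A class of type M(22) is the class of the first generator of Fi22. -/
theorem exists_equiv (hD : Cfsg.IsThreeTranspositionGroup D) (hprim : Cfsg.IsPrimitiveUnderConj D)
    (h22 : Cfsg.IsOfTypeM22 G D) :
    ∃ e : Cfsg.Spor.Fi22 ≃* G, e '' conjugatesOf fiA = D := by
  obtain ⟨F, _, _, hF, hS⟩ := m22_of_type hD hprim h22
  obtain ⟨a, ha, -⟩ := hprim.2.1
  obtain ⟨e, he⟩ := exists_iso hS ha
  refine ⟨e, Set.ext fun x => ⟨?_, fun hx => ?_⟩⟩
  · rintro ⟨z, hz, rfl⟩
    obtain ⟨c, rfl⟩ := isConj_iff.1 hz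
    rw [map_mul, map_mul, map_inv, he]
    exact hD.2.1 _ a ha
  · obtain ⟨g, rfl⟩ := hprim.1 a ha x hx
    exact ⟨e.symm g * fiA * (e.symm g)⁻¹, isConj_iff.2 ⟨_, rfl⟩, by simp [he]⟩

end Cfsg.Lib.Fischer.Fi22Recog
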