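import Cfsg.Agent.Lib.Fischer.Fi22Recog.Code
import Cfsg.Agent.Lib.Fischer.Relations.Linear
import Cfsg.Agent.Lib.Fischer.RadicalAbelian.SpecialUnitary

/-!
# Codes read in a field with four elements
-/

set_option autoImplicit false
set_option linter.unusedSectionVars false

namespace Cfsg.Lib.Fischer.Fi22Recog

open Cfsg.Lib.Linear.Herm Cfsg.Agent.S1631 Cfsg.Lib.Fischer.RadicalAbelian

theorem dig_lt (n i : ℕ) : dig n i < 4 := Nat.mod_lt _ (by norm_num)

theorem dig_enc {a b c d e f : ℕ} (ha : a < 4) (hb : b < 4) (hc : c < 4) (hd : d < 4) (he : e < 4)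
    (hf : f < 4) (i : Fin 6) : dig (enc a b c d e f) i = ![a, b, c, d, e, f] i := by
  fin_cases i <;> simp [dig, enc] <;> omega

theorem enc_lt {a b c d e f : ℕ} (ha : a < 4) (hb : b < 4) (hc : c < 4) (hd : d < 4) (he : e < 4)
    (hf : f < 4) : enc a b c d e f < 4096 := by simp only [enc]; omega

theorem add4_lt (a b : ℕ) : add4 a b < 4 := Nat.mod_lt _ (by norm_num)

theorem conj4_lt (a : ℕ) : conj4 a < 4 := by
  match a with
  | 0 | 1 | 2 | 3 => decide
  | _ + 4 => simp [conj4]

theorem mul4_lt (a b : ℕ) : mul4 a b < 4 := by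
  unfold mul4
  generalize 4 * a + b = k
  match k with
  | 0 | 1 | 2 | 3 | 4 | 5 | 6 | 7 | 8 | 9 | 10 | 11 | 12 | 13 | 14 | 15 => decide
  | _ + 16 => simp

theorem scc_lt (k n : ℕ) : scc k n < 4096 :=
  enc_lt (mul4_lt _ _) (mul4_lt _ _) (mul4_lt _ _) (mul4_lt _ _) (mul4_lt _ _) (mul4_lt _ _)

theorem addc_lt (m n : ℕ) : addc m n < 4096 :=
  enc_lt (add4_lt _ _) (add4_lt _ _) (add4_lt _ _) (add4_lt _ _) (add4_lt _ _) (add4_lt _ _)

theorem normc_lt (n : ℕ) : normc n < 4096 := scc_lt _ _

theorem formc_lt (m n : ℕ) : formc m n < 4 := add4_lt _ _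

theorem dig_addc (m n : ℕ) (i : Fin 6) : dig (addc m n) i = add4 (dig m i) (dig n i) := by
  rw [addc, dig_enc (add4_lt _ _) (add4_lt _ _) (add4_lt _ _) (add4_lt _ _) (add4_lt _ _) (add4_lt _ _)]
  fin_cases i <;> rfl

theorem dig_scc (k n : ℕ) (i : Fin 6) : dig (scc k n) i = mul4 k (dig n i) := by
  rw [scc, dig_enc (mul4_lt _ _) (mul4_lt _ _) (mul4_lt _ _) (mul4_lt _ _) (mul4_lt _ _) (mul4_lt _ _)]
  fin_cases i <;> rfl

variable {F : Type} [Field F] [Fintype F] {hF : Fintype.card F = 2 ^ 2}

/-- A primitive cube root of unity. -/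
structure Omega (hF : Fintype.card F = 2 ^ 2) where
  w : F
  rel : w * w = w + 1

theorem exists_omega (hF : Fintype.card F = 2 ^ 2) : Nonempty (Omega hF) := by
  have hK := fourField hF
  obtain ⟨w, hw⟩ : ∃ w : F, frob hF w ≠ w := by
    by_contra h
    push Not at h
    exact hK.ne_id (RingHom.ext h)
  have hw0 : w ≠ 0 := fun e => hw (by rw [e, map_zero])
  have hw1 : w ≠ 1 := fun e => hw (by rw [e, map_one])
  have : (w - 1) * (w * w + w + 1) = 0 := by linear_combination hK.cube w hw0
  exact ⟨w, by linear_combination (mul_eq_zero.1 this).resolve_left (sub_ne_zero.2 hw1) - (w + 1) * hK.two⟩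

variable (o : Omega hF)

/-- The field element of a digit. -/
def Omega.el (k : ℕ) : F := if k = 1 then 1 else if k = 2 then o.w else if k = 3 then o.w + 1 else 0

theorem Omega.two (_ : Omega hF) : (2 : F) = 0 := (fourField hF).two

theorem Omega.w_ne_zero : o.w ≠ 0 := fun e => by
  have := o.rel
  simp [e] at this

theorem Omega.w_ne_one : o.w ≠ 1 := fun e => by
  have := o.rel
  rw [e] at this
  exact one_ne_zero (α := F) (by linear_combination -this)

theorem Omega.el_eq_zero {k : ℕ} (hk : k < 4) : o.el k = 0 ↔ k = 0 := by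
  have h1 : o.w + 1 ≠ 0 := fun e => o.w_ne_zero (mul_self_eq_zero.1 (o.rel.trans e))
  interval_cases k <;> simp [Omega.el, o.w_ne_zero, h1]

theorem Omega.el_add {a b : ℕ} (ha : a < 4) (hb : b < 4) : o.el (add4 a b) = o.el a + o.el b := by
  interval_cases a <;> interval_cases b <;> simp [Omega.el, add4] <;>
    first
      | rfl
      | linear_combination -o.two
      | linear_combination -o.w * o.two
      | linear_combination -(o.w + 1) * o.two
      | linear_combination o.two
      | linear_combination o.w * o.two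
      | linear_combination (o.w + 1) * o.two
      | ring

theorem Omega.el_mul {a b : ℕ} (ha : a < 4) (hb : b < 4) : o.el (mul4 a b) = o.el a * o.el b := by
  interval_cases a <;> interval_cases b <;> simp [Omega.el, mul4] <;>
    first
      | linear_combination -o.rel
      | linear_combination -o.rel - o.w * o.two
      | linear_combination -o.rel - (o.w + 1) * o.two

theorem Omega.el_conj {a : ℕ} (ha : a < 4) : o.el (conj4 a) = frob hF (o.el a) := by
  rw [(fourField hF).sq]
  interval_cases a <;> simp [Omega.el, conj4] <;>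
    first
      | linear_combination -o.rel
      | linear_combination -o.rel - o.w * o.two
      | linear_combination -o.rel - (o.w + 1) * o.two

theorem Omega.el_surj (x : F) : ∃ k < 4, o.el k = x := by
  classical
  have hinj : Function.Injective fun k : Fin 4 => o.el k := by
    intro a b h
    have : o.el (add4 a b) = 0 := by
      rw [o.el_add a.2 b.2, show o.el a = o.el b from h]
      linear_combination o.el b * o.two
    rw [o.el_eq_zero (add4_lt _ _)] at this
    have hall : ∀ a b : Fin 4, add4 a b = 0 → a = b := by decide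
    exact hall a b this
  obtain ⟨k, hk⟩ := ((Fintype.bijective_iff_injective_and_card _).2 ⟨hinj, by simp [hF]⟩).2 x
  exact ⟨k, k.2, hk⟩

/-- The vector of a code. -/
def Omega.vec (n : ℕ) : Fin 6 → F := fun i => o.el (dig n i)

theorem Omega.vec_addc (m n : ℕ) : o.vec (addc m n) = o.vec m + o.vec n := funext fun i => by
  rw [Pi.add_apply, Omega.vec, dig_addc, o.el_add (dig_lt _ _) (dig_lt _ _)]; rfl

theorem Omega.vec_scc {k : ℕ} (hk : k < 4) (n : ℕ) : o.vec (scc k n) = o.el k • o.vec n := funext fun i => by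
  rw [Pi.smul_apply, smul_eq_mul, Omega.vec, dig_scc, o.el_mul hk (dig_lt _ _)]; rfl

theorem Omega.vec_zero : o.vec 0 = 0 := funext fun i => by simp [Omega.vec, dig, Omega.el]

theorem Omega.form (m n : ℕ) : hB hF 6 (o.vec m) (o.vec n) = o.el (formc m n) := by
  have key : ∀ i, o.el (mul4 (conj4 (dig m i)) (dig n i)) = o.el (dig n i) * o.el (dig m i) ^ 2 := fun i => by
    rw [o.el_mul (conj4_lt _) (dig_lt _ _), o.el_conj (dig_lt _ _), frob_apply, mul_comm]
  have l1 : ∀ i, mul4 (conj4 (dig m i)) (dig n i) < 4 := fun i => mul4_lt _ _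
  rw [hB_apply, Cfsg.hermForm, Fin.sum_univ_six, formc, o.el_add (l1 _) (add4_lt _ _),
    o.el_add (l1 _) (add4_lt _ _), o.el_add (l1 _) (add4_lt _ _), o.el_add (l1 _) (add4_lt _ _),
    o.el_add (l1 _) (l1 _), key, key, key, key, key, key]
  simp only [Omega.vec, Fin.val_zero, Fin.val_one, Fin.val_two]
  show _ = _
  simp only [show ((3 : Fin 6) : ℕ) = 3 from rfl, show ((4 : Fin 6) : ℕ) = 4 from rfl,
    show ((5 : Fin 6) : ℕ) = 5 from rfl]
  ring

theorem Omega.form_eq_zero (m n : ℕ) : hB hF 6 (o.vec m) (o.vec n) = 0 ↔ formc m n = 0 := by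
  rw [o.form, o.el_eq_zero (formc_lt _ _)]

theorem dig_ext : ∀ n < 4096, enc (dig n 0) (dig n 1) (dig n 2) (dig n 3) (dig n 4) (dig n 5) = n := by
  intro n hn
  simp [enc, dig]
  omega

theorem Omega.vec_inj {m n : ℕ} (hm : m < 4096) (hn : n < 4096) (h : o.vec m = o.vec n) : m = n := by
  have hd : ∀ i : Fin 6, dig m i = dig n i := fun i => by
    have h1 : o.el (add4 (dig m i) (dig n i)) = 0 := by
      rw [o.el_add (dig_lt _ _) (dig_lt _ _), show o.el (dig m i) = o.el (dig n i) from congrFun h i]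
      linear_combination o.el (dig n i) * o.two
    rw [o.el_eq_zero (add4_lt _ _)] at h1
    have hall : ∀ a < 4, ∀ b < 4, add4 a b = 0 → a = b := by decide
    exact hall _ (dig_lt _ _) _ (dig_lt _ _) h1
  rw [← dig_ext m hm, ← dig_ext n hn]
  have := hd 0; have := hd 1; have := hd 2; have := hd 3; have := hd 4; have := hd 5
  simp_all

theorem Omega.vec_surj (v : Fin 6 → F) : ∃ n < 4096, o.vec n = v := by
  choose k hk hv using o.el_surj
  refine ⟨enc (k (v 0)) (k (v 1)) (k (v 2)) (k (v 3)) (k (v 4)) (k (v 5)),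
    enc_lt (hk _) (hk _) (hk _) (hk _) (hk _) (hk _), funext fun i => ?_⟩
  rw [Omega.vec, dig_enc (hk _) (hk _) (hk _) (hk _) (hk _) (hk _)]
  fin_cases i <;> simp [hv]

end Cfsg.Lib.Fischer.Fi22Recog
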