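import Cfsg.Agent.Lib.Fischer.Fi22Recog.Code

/-!
# Finite checks on the codes
-/

set_option autoImplicit false
set_option maxRecDepth 100000

namespace Cfsg.Lib.Fischer.Fi22Recog

/-- A nonzero isotropic code normalises to a point of which it is a multiple. -/
def normOK : Nat → Nat → Bool
  | 0, _ => true
  | m + 1, n => (Nat.beq n 0 || !(Nat.beq (formc n n) 0) || (isPt (normc n) &&
      [1, 2, 3].any fun k => Nat.beq (scc k (normc n)) n)) && normOK m (n + 1)

theorem normOK_all : normOK 4096 0 = true := by decide +kernel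

theorem normOK_get : ∀ (m n : Nat), normOK m n = true → ∀ j, n ≤ j → j < n + m →
    (Nat.beq j 0 || !(Nat.beq (formc j j) 0) || (isPt (normc j) &&
      [1, 2, 3].any fun k => Nat.beq (scc k (normc j)) j)) = true
  | 0, n, _, j, h1, h2 => absurd h2 (by omega)
  | m + 1, n, h, j, h1, h2 => by
    rw [normOK, Bool.and_eq_true] at h
    by_cases hj : j = n
    · rw [hj]; exact h.1
    · exact normOK_get m (n + 1) h.2 j (by omega) (by omega)

/-- The multiples of a point. -/
def uniqOK : Nat → Nat → Bool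
  | 0, _ => true
  | m + 1, n => (!(isPt n) || (!(isPt (scc 2 n)) && !(isPt (scc 3 n)) && Nat.beq (scc 1 n) n)) && uniqOK m (n + 1)

theorem uniqOK_all : uniqOK 4096 0 = true := by decide +kernel

theorem uniqOK_get : ∀ (m n : Nat), uniqOK m n = true → ∀ j, n ≤ j → j < n + m →
    (!(isPt j) || (!(isPt (scc 2 j)) && !(isPt (scc 3 j)) && Nat.beq (scc 1 j) j)) = true
  | 0, n, _, j, h1, h2 => absurd h2 (by omega)
  | m + 1, n, h, j, h1, h2 => by
    rw [uniqOK, Bool.and_eq_true] at h
    by_cases hj : j = n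
    · rw [hj]; exact h.1
    · exact uniqOK_get m (n + 1) h.2 j (by omega) (by omega)

theorem isPt_spec {n : Nat} (h : isPt n = true) : 1 ≤ n ∧ n < 4096 ∧ normc n = n ∧ formc n n = 0 := by
  simp only [isPt, Bool.and_eq_true, Nat.ble_eq, Nat.blt_eq, Nat.beq_eq] at h
  exact ⟨h.1.1.1, h.1.1.2, h.1.2, h.2⟩

theorem normc_spec {n : Nat} (h0 : n ≠ 0) (hn : n < 4096) (hf : formc n n = 0) :
    isPt (normc n) = true ∧ ∃ k, (k = 1 ∨ k = 2 ∨ k = 3) ∧ scc k (normc n) = n := by
  have h := normOK_get _ _ normOK_all n (Nat.zero_le _) (by omega)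
  simp only [Bool.or_eq_true, Bool.and_eq_true, Bool.not_eq_true', List.any_eq_true, Nat.beq_eq,
    List.mem_cons, List.not_mem_nil, or_false] at h
  rcases h with (h | h) | ⟨h1, k, hk, h2⟩
  · exact absurd h h0
  · exact absurd (Nat.beq_eq ▸ hf : Nat.beq (formc n n) 0 = true) (by simp [h])
  · exact ⟨h1, k, hk, h2⟩

theorem pt_unique {n k : Nat} (hn : isPt n = true) (hk : k = 1 ∨ k = 2 ∨ k = 3)
    (h : isPt (scc k n) = true) : scc k n = n := by
  have hu := uniqOK_get _ _ uniqOK_all n (Nat.zero_le _) (by have := (isPt_spec hn).2.1; omega)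
  simp only [hn, Bool.not_true, Bool.false_or, Bool.and_eq_true, Bool.not_eq_true', Nat.beq_eq] at hu
  rcases hk with rfl | rfl | rfl
  · exact hu.2
  · exact absurd h (by simp [hu.1.1])
  · exact absurd h (by simp [hu.1.2])

end Cfsg.Lib.Fischer.Fi22Recog
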