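import Cfsg.Agent.Lib.Fischer.Fi22Recog.Bridge
import Cfsg.Agent.Lib.Fischer.Fi22Recog.Points
import Cfsg.Agent.Lib.Fischer.Relations.M22Simple

/-!
# A neighbourhood in a group of type M(22) coded by the points
-/

set_option autoImplicit false
set_option linter.unusedSectionVars false

namespace Cfsg.Lib.Fischer.Fi22Recog

open Module Cfsg Cfsg.Lib.Fischer Cfsg.Lib.Linear.Herm Cfsg.Agent.S1631 Cfsg.Lib.Fischer.RadicalAbelian
open Cfsg.Lib.Fischer.Relations

variable {G : Type*} [Group G] [Finite G] {D : Set G}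
  {F : Type} [Field F] [Fintype F] {hF : Fintype.card F = 2 ^ 2}

/-- The hypotheses: a primitive class with coordinatised neighbourhoods. -/
structure M22 (D : Set G) (hF : Fintype.card F = 2 ^ 2) : Prop where
  fischer : IsFischer D
  prim : Cfsg.IsPrimitiveUnderConj D
  centre : Subgroup.center G = ⊥
  sep : ∀ a ∈ D, ∀ b ∈ D, (∀ e ∈ D, Commute a e ↔ Commute b e) → a = b
  data : ∀ d ∈ D, Nonempty (UData (perp D d) (hB hF 6))

theorem M22.trans (S : M22 D hF) : Trans D := S.fischer.toTrans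

/-- Composition of coordinates with an isometry. -/
def mapData {S : Set G} (U : UData S (hB hF 6)) (T : (Fin 6 → F) ≃ₗ[F] (Fin 6 → F))
    (hT : ∀ x y, hB hF 6 (T x) (T y) = hB hF 6 x y) : UData S (hB hF 6) where
  c s := T (U.c s)
  iso s hs := by rw [hT]; exact U.iso s hs
  ne s hs := fun h => U.ne s hs (T.map_eq_zero_iff.1 h)
  comm a ha b hb := by rw [hT]; exact U.comm a ha b hb
  every w hw hw0 := by
    obtain ⟨s, hs, k, hk, h⟩ := U.every (T.symm w) (by rw [← hT, T.apply_symm_apply]; exact hw)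
      (fun h => hw0 (by simpa using congrArg T h))
    exact ⟨s, hs, k, hk, by rw [h, map_smul, T.apply_symm_apply]⟩
  inj a ha b hb k hk := U.inj a ha b hb k (T.injective (by rw [map_smul]; exact hk))
  rel l hl hc y hy := by
    rw [U.rel l hl hc y hy]
    have e : ∀ l : List G, Linear.act (hB hF 6) (l.map fun s => T (U.c s)) (T (U.c y)) =
        T (Linear.act (hB hF 6) (l.map U.c) (U.c y)) := by
      intro l
      induction l with
      | nil => simp [Linear.act]
      | cons s t ih => rw [List.map_cons, List.map_cons, Linear.act_cons, Linear.act_cons, ih, map_add,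
          map_smul, hT]
    rw [e, LinearEquiv.map_eq_zero_iff]

/-- A neighbourhood coded by the points. -/
structure Chart (D : Set G) (a : G) (hF : Fintype.card F = 2 ^ 2) where
  U : UData (perp D a) (hB hF 6)
  o : Omega hF
  el : ℕ → G
  spec : ∀ n, isPt n = true → el n ∈ perp D a ∧ ∃ k : F, k ≠ 0 ∧ U.c (el n) = k • o.vec n

theorem exists_chart {a : G} (U : UData (perp D a) (hB hF 6)) (o : Omega hF) :
    ∃ C : Chart D a hF, C.U = U ∧ C.o = o := by
  classical
  have h : ∀ n, ∃ x : G, isPt n = true → x ∈ perp D a ∧ ∃ k : F, k ≠ 0 ∧ U.c x = k • o.vec n := by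
    intro n
    by_cases hn : isPt n = true
    · obtain ⟨h1, h2, -, h4⟩ := isPt_spec hn
      obtain ⟨x, hx, k, hk, hc⟩ := U.every (o.vec n) ((o.form_eq_zero n n).2 h4)
        (fun h0 => by
          have := o.vec_inj h2 (by norm_num) (h0.trans o.vec_zero.symm)
          omega)
      exact ⟨x, fun _ => ⟨hx, k, hk, hc⟩⟩
    · exact ⟨1, fun h => absurd h hn⟩
  choose el hel using h
  exact ⟨⟨U, o, el, hel⟩, rfl, rfl⟩

namespace Chart

variable {a : G} (C : Chart D a hF)

theorem mem {n : ℕ} (hn : isPt n = true) : C.el n ∈ perp D a := (C.spec n hn).1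

theorem mem_D {n : ℕ} (hn : isPt n = true) : C.el n ∈ D := (C.mem hn).1

theorem comm {m n : ℕ} (hm : isPt m = true) (hn : isPt n = true) :
    Commute (C.el m) (C.el n) ↔ formc m n = 0 := by
  obtain ⟨h1, k, hk, e1⟩ := C.spec m hm
  obtain ⟨h2, j, hj, e2⟩ := C.spec n hn
  rw [C.U.comm _ h1 _ h2, e1, e2, ← C.o.form_eq_zero]
  simp [hk, hj]

theorem el_eq_of_smul {x : G} (hx : x ∈ perp D a) {n : ℕ} (hn : isPt n = true) {j : F}
    (hj : C.U.c x = j • C.o.vec n) : C.el n = x := by
  obtain ⟨h1, k, hk, e1⟩ := C.spec n hn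
  refine C.U.inj _ h1 _ hx (j * k⁻¹) ?_
  rw [e1, smul_smul, mul_assoc, inv_mul_cancel₀ hk, mul_one, hj]

/-- A member whose vector is a multiple of the vector of a code is the member of the normalised code. -/
theorem el_normc {x : G} (hx : x ∈ perp D a) {n : ℕ} (hn : n < 4096) {j : F}
    (hj : C.U.c x = j • C.o.vec n) : isPt (normc n) = true ∧ C.el (normc n) = x := by
  have hne := C.U.ne x hx
  have hj0 : j ≠ 0 := fun h => hne (by rw [hj, h, zero_smul])
  have hn0 : n ≠ 0 := fun h => hne (by rw [hj, h, C.o.vec_zero, smul_zero])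
  have hf : formc n n = 0 := by
    have := C.U.iso x hx
    rw [hj, map_smul, LinearMap.map_smulₛₗ, LinearMap.smul_apply] at this
    simp only [smul_eq_mul, mul_eq_zero, hj0, map_eq_zero, false_or] at this
    exact (C.o.form_eq_zero n n).1 this
  obtain ⟨hp, k, hk, he⟩ := normc_spec hn0 hn hf
  refine ⟨hp, C.el_eq_of_smul hx hp (j := j * C.o.el k) ?_⟩
  rw [hj, mul_smul, ← C.o.vec_scc (by omega), he]

theorem surj {x : G} (hx : x ∈ perp D a) : ∃ n, isPt n = true ∧ C.el n = x := by
  obtain ⟨m, hm, e⟩ := C.o.vec_surj (C.U.c x)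
  exact ⟨_, C.el_normc hx hm (j := 1) (by rw [one_smul, e])⟩

theorem inj {m n : ℕ} (hm : isPt m = true) (hn : isPt n = true) (h : C.el m = C.el n) : m = n := by
  obtain ⟨-, k, hk, e1⟩ := C.spec m hm
  obtain ⟨-, j, hj, e2⟩ := C.spec n hn
  rw [h, e2] at e1
  obtain ⟨i, hi, hie⟩ := C.o.el_surj (k⁻¹ * j)
  have hv : C.o.vec m = C.o.vec (scc i n) := by
    rw [C.o.vec_scc hi, hie, mul_smul, e1, smul_smul, inv_mul_cancel₀ hk, one_smul]
  have hmn := C.o.vec_inj (isPt_spec hm).2.1 (scc_lt i n) hv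
  have hi0 : i ≠ 0 := fun h0 => by
    rw [h0] at hie
    exact mul_ne_zero (inv_ne_zero hk) hj (hie.symm.trans ((C.o.el_eq_zero (by norm_num)).2 rfl))
  rw [hmn]
  exact pt_unique hn (by omega) (hmn ▸ hm)

theorem el_iff {m n : ℕ} (hm : isPt m = true) (hn : isPt n = true) : C.el m = C.el n ↔ m = n :=
  ⟨C.inj hm hn, fun h => h ▸ rfl⟩

/-- Conjugation by a neighbour acts as the transvection. -/
theorem conj (hD : Trans D) {m n : ℕ} (hm : isPt m = true) (hn : isPt n = true) :
    isPt (trp m n) = true ∧ cj (C.el m) (C.el n) = C.el (trp m n) := by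
  have hK := fourField hF
  have hS := hB_isSymm hF 6
  have hND := hB_nondegenerate hF 6
  have h5 : 5 ≤ finrank F (Fin 6 → F) := by rw [finrank_fin_fun]; norm_num
  obtain ⟨hy, j, hj, ey⟩ := C.spec m hm
  obtain ⟨hx, k, hk, ex⟩ := C.spec n hn
  have hlt := addc_lt n (scc (formc m n) m)
  rw [trp]
  by_cases hc : Commute (C.el m) (C.el n)
  · rw [cj_of_commute hD hy.1 hc]
    have h0 := (C.comm hm hn).1 hc
    obtain ⟨h1, h2⟩ := C.el_normc hx hlt (j := k) (by
      rw [ex, C.o.vec_addc, C.o.vec_scc (formc_lt _ _), h0, (C.o.el_eq_zero (by norm_num)).2 rfl, zero_smul,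
        add_zero])
    exact ⟨h1, h2.symm⟩
  obtain ⟨z, hz⟩ : ∃ z, z = cj (C.el m) (C.el n) := ⟨_, rfl⟩
  have hzD : z ∈ D := hz ▸ cj_mem hD hy.1 hx.1
  have hza : z ∈ perp D a := by
    refine ⟨hzD, fun h => hx.2.1 ?_, ?_⟩
    · rw [← cj_cj hD hy.1 (C.el n), ← hz, h, cj_of_commute hD hy.1 hy.2.2.symm]
    · rw [hz]; exact (commute_cj_of hD hy.1 hy.2.2.symm).2 hx.2.2
  have hne : hB hF 6 (C.U.c (C.el n)) (C.U.c (C.el m)) ≠ 0 := fun h => hc ((C.U.comm _ hx _ hy).2 h).symm
  have hside : ∀ s, hB hF 6 s s = 0 → s ≠ 0 → hB hF 6 (C.U.c (C.el n)) s = 0 →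
      hB hF 6 (C.U.c (C.el m)) s = 0 → hB hF 6 (C.U.c z) s = 0 := fun s hs hs0 hns hms => by
    obtain ⟨e, he, i, hi, hec⟩ := C.U.every s hs hs0
    have h1 : Commute (C.el n) e := (C.U.comm _ hx e he).2 (by rw [hec, map_smul, hns, smul_zero])
    have h2 : Commute (C.el m) e := (C.U.comm _ hy e he).2 (by rw [hec, map_smul, hms, smul_zero])
    have h3 := (C.U.comm z hza e he).1 (hz ▸ ((commute_cj_of hD hy.1 h2).2 h1.symm).symm)
    rw [hec, map_smul, smul_eq_mul] at h3
    exact (mul_eq_zero.1 h3).resolve_left hi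
  rcases Linear.hyperbolic_third hK hS hND h5 (C.U.iso _ hx) (C.U.iso _ hy) hne (C.U.iso _ hza) hside with
    ⟨i, hi⟩ | ⟨i, hi⟩ | ⟨i, hi⟩
  · exact absurd ((cj_eq_self hD hy.1).1 (by rw [← hz]; exact (C.U.inj _ hx z hza i hi).symm)) hc
  · refine absurd ((Commute.refl (C.el m)).symm) ?_
    have e := (C.U.inj _ hy z hza i hi).symm
    rw [hz] at e
    have : C.el n = C.el m := by rw [← cj_cj hD hy.1 (C.el n), e, cj_self hD hy.1]
    exact absurd (by rw [this]) hc
  · obtain ⟨h1, h2⟩ := C.el_normc hza hlt (j := i * k) (by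
      have hb : (hB hF 6 (C.U.c (C.el n)) (C.U.c (C.el m)))⁻¹ • C.U.c (C.el m) =
          k • (C.o.el (formc m n) • C.o.vec m) := by
        rw [← C.o.form, ey, ex, smul_smul, smul_smul]
        congr 1
        have h2 : hB hF 6 (C.o.vec m) (C.o.vec n) = frob hF (hB hF 6 (C.o.vec n) (C.o.vec m)) :=
          (hS.eq _ _).symm
        have hb0 : hB hF 6 (C.o.vec n) (C.o.vec m) ≠ 0 := fun h => hne (by simp [ex, ey, h])
        rw [h2, hK.sq, map_smul, LinearMap.map_smulₛₗ, LinearMap.smul_apply, smul_eq_mul, smul_eq_mul, hK.sq]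
        generalize hB hF 6 (C.o.vec n) (C.o.vec m) = b at hb0
        field_simp
        linear_combination (-1 : F) * hK.cube b hb0 - (b * b * b) * hK.cube k hk
      rw [hi, hb, ex, C.o.vec_addc, C.o.vec_scc (formc_lt _ _), smul_add, smul_smul, smul_smul, mul_smul,
        smul_add, smul_smul, smul_smul])
    exact ⟨h1, by rw [← hz, h2]⟩

theorem actc_eq (l : List ℕ) (w : ℕ) :
    C.o.vec (actc l w) = Linear.act (hB hF 6) (l.map C.o.vec) (C.o.vec w) := by
  induction l with
  | nil => simp [actc, Linear.act, C.o.vec_zero]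
  | cons p t ih => rw [actc, List.map_cons, Linear.act_cons, C.o.vec_addc, C.o.vec_scc (formc_lt _ _), ih, C.o.form]

/-- The product of a list with vanishing displacement centralizes the neighbourhood. -/
theorem central {l : List ℕ} (ho : pairOrth l = true) (h0 : actZero l = true) :
    ∀ y ∈ perp D a, Commute (l.map C.el).prod y := by
  have hK := fourField hF
  simp only [pairOrth, List.all_eq_true, Bool.and_eq_true, Nat.beq_eq] at ho
  have hl : ∀ x ∈ l.map C.el, x ∈ perp D a := by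
    intro x hx
    obtain ⟨n, hn, rfl⟩ := List.mem_map.1 hx
    exact C.mem (ho n hn).1
  have hc : ∀ x ∈ l.map C.el, ∀ y ∈ l.map C.el, Commute x y := by
    intro x hx y hy
    obtain ⟨m, hm, rfl⟩ := List.mem_map.1 hx
    obtain ⟨n, hn, rfl⟩ := List.mem_map.1 hy
    exact (C.comm (ho m hm).1 (ho n hn).1).2 ((ho m hm).2 n hn)
  intro y hy
  rw [C.U.rel _ hl hc y hy, List.map_map]
  have e : Linear.act (hB hF 6) (l.map (C.U.c ∘ C.el)) = Linear.act (hB hF 6) (l.map C.o.vec) := by
    refine LinearMap.ext fun x => ?_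
    have hmem : ∀ n ∈ l, isPt n = true := fun n hn => (ho n hn).1
    clear ho hl hc h0
    induction l with
    | nil => rfl
    | cons p t ih =>
      rw [List.map_cons, List.map_cons, Linear.act_cons, Linear.act_cons,
        ih fun n hn => hmem n (by simp [hn])]
      congr 1
      obtain ⟨-, k, hk, ep⟩ := C.spec p (hmem p (by simp))
      rw [Function.comp_apply, ep, LinearMap.map_smulₛₗ, LinearMap.smul_apply, smul_eq_mul, smul_smul, hK.sq]
      congr 1
      linear_combination hB hF 6 (C.o.vec p) x * hK.cube k hk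
  rw [e]
  have hz : Linear.act (hB hF 6) (l.map C.o.vec) = 0 := by
    refine (Pi.basisFun F (Fin 6)).ext fun i => ?_
    have hi : C.o.vec (4 ^ (i : ℕ)) = Pi.single i 1 := by
      funext j
      fin_cases i <;> fin_cases j <;> simp [Omega.vec, dig, Omega.el]
    rw [Pi.basisFun_apply, ← hi, ← C.actc_eq, LinearMap.zero_apply, ← C.o.vec_zero]
    congr 1
    simp only [actZero, List.all_eq_true, Nat.beq_eq] at h0
    exact h0 _ (by fin_cases i <;> simp)
  rw [hz, LinearMap.zero_apply]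

end Chart

end Cfsg.Lib.Fischer.Fi22Recog
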