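/-!
# Codes for the vectors of a six-dimensional unitary space over four elements

A vector is the number with base-four digits its coordinates, where 2 stands for a primitive cube root of
unity. A point is the code of a nonzero isotropic vector whose first nonzero coordinate is one.
-/

set_option autoImplicit false

namespace Cfsg.Lib.Fischer.Fi22Recog

/-- A coordinate. -/
def dig (n i : Nat) : Nat := n / 4 ^ i % 4

/-- The code of six coordinates. -/
def enc (a b c d e f : Nat) : Nat := a + 4 * b + 16 * c + 64 * d + 256 * e + 1024 * f

/-- Addition of field elements. -/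
def add4 (a b : Nat) : Nat := Nat.xor a b % 4

/-- Multiplication of field elements. -/
def mul4 (a b : Nat) : Nat := [0, 0, 0, 0, 0, 1, 2, 3, 0, 2, 3, 1, 0, 3, 1, 2].getD (4 * a + b) 0

/-- The field automorphism, also the inverse. -/
def conj4 (a : Nat) : Nat := [0, 1, 3, 2].getD a 0

/-- Addition of vectors. -/
def addc (m n : Nat) : Nat :=
  enc (add4 (dig m 0) (dig n 0)) (add4 (dig m 1) (dig n 1)) (add4 (dig m 2) (dig n 2))
    (add4 (dig m 3) (dig n 3)) (add4 (dig m 4) (dig n 4)) (add4 (dig m 5) (dig n 5))

/-- Scalar multiplication. -/
def scc (k n : Nat) : Nat :=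
  enc (mul4 k (dig n 0)) (mul4 k (dig n 1)) (mul4 k (dig n 2)) (mul4 k (dig n 3)) (mul4 k (dig n 4))
    (mul4 k (dig n 5))

/-- The hermitian form, semilinear in the first argument. -/
def formc (m n : Nat) : Nat :=
  add4 (mul4 (conj4 (dig m 0)) (dig n 0)) (add4 (mul4 (conj4 (dig m 1)) (dig n 1))
    (add4 (mul4 (conj4 (dig m 2)) (dig n 2)) (add4 (mul4 (conj4 (dig m 3)) (dig n 3))
      (add4 (mul4 (conj4 (dig m 4)) (dig n 4)) (mul4 (conj4 (dig m 5)) (dig n 5))))))

/-- The first nonzero coordinate. -/
def lead (n : Nat) : Nat :=
  if dig n 0 != 0 then dig n 0 else if dig n 1 != 0 then dig n 1 else if dig n 2 != 0 then dig n 2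
  else if dig n 3 != 0 then dig n 3 else if dig n 4 != 0 then dig n 4 else dig n 5

/-- The normalised code of a line through zero. -/
def normc (n : Nat) : Nat := scc (conj4 (lead n)) n

/-- The points. -/
def isPt (n : Nat) : Bool := Nat.ble 1 n && Nat.blt n 4096 && Nat.beq (normc n) n && Nat.beq (formc n n) 0

/-- The transvection of the point `m` applied to `n`. -/
def trp (m n : Nat) : Nat := normc (addc n (scc (formc m n) m))

/-- A word of transvections applied to a point, the last letter first. -/
def applyW : List Nat → Nat → Nat
  | [], n => n
  | y :: w, n => trp y (applyW w n)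

/-- A point on the line of two points. -/
def onLine (m n p : Nat) : Bool :=
  [0, 1, 2, 3].any fun i => [0, 1, 2, 3].any fun j => Nat.beq (normc (addc (scc i m) (scc j n))) p

/-- The displacement of a product of transvections applied to a vector. -/
def actc : List Nat → Nat → Nat
  | [], _ => 0
  | p :: l, w => addc (scc (formc p w) p) (actc l w)

/-- The displacement vanishes on the standard basis. -/
def actZero (l : List Nat) : Bool := [1, 4, 16, 64, 256, 1024].all fun w => Nat.beq (actc l w) 0

/-- Points that are pairwise perpendicular. -/
def pairOrth (l : List Nat) : Bool := l.all fun m => isPt m && l.all fun n => Nat.beq (formc m n) 0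

/-- Distinct entries. -/
def distinct : List Nat → Bool
  | [] => true
  | a :: l => !(l.contains a) && distinct l

/-- Scaling of the last two coordinates. -/
def blockScale (k n : Nat) : Nat :=
  normc (enc (dig n 0) (dig n 1) (dig n 2) (dig n 3) (mul4 k (dig n 4)) (mul4 k (dig n 5)))

/-- A step in finding members that commute with a given one. -/
inductive Step
  /-- The transvection of the point at the first position applied to the point at the second. -/
  | third (i j : Nat)
  /-- Six points with product one, three of them at the given positions. -/
  | hexad (w : List Nat) (i j k : Nat)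

/-- The points found by one step. -/
def Step.out (h₀ : List Nat) (L : List Nat) : Step → List Nat
  | .third i j =>
    cond (Nat.blt i L.length && Nat.blt j L.length) [trp (L.getD i 0) (L.getD j 0)] []
  | .hexad w i j k =>
    let H := h₀.map (applyW w)
    cond (Nat.blt i L.length && Nat.blt j L.length && Nat.blt k L.length && w.all isPt &&
        H.contains (L.getD i 0) && H.contains (L.getD j 0) && H.contains (L.getD k 0) &&
        distinct [L.getD i 0, L.getD j 0, L.getD k 0]) H []

/-- The points found by a list of steps. -/
def derive (h₀ : List Nat) : List Nat → List Step → List Nat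
  | L, [] => L
  | L, s :: t => derive h₀ (L ++ s.out h₀ L) t

/-- Three found points on a line. -/
def badTriple (L : List Nat) (m n p : Nat) : Bool :=
  L.contains m && L.contains n && L.contains p && distinct [m, n, p] && Nat.beq (formc m n) 0 &&
    onLine m n p

end Cfsg.Lib.Fischer.Fi22Recog
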