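import Mathlib.Algebra.Group.Basic
import Mathlib.Algebra.BigOperators.Group.List.Basic
import Mathlib.Tactic.Group

/-!
# Rewriting words in the graph Y332 of involutions

A word is a list of generator numbers 0 to 8, read as the product from left to right. A move cancels a repeated
letter, interchanges two letters that are not joined, or replaces `a b a` by `b a b` for joined letters.
-/

set_option autoImplicit false

namespace Cfsg.Lib.Fischer.Fi22Recog

/-- The edges of the graph, each pair once. -/
def edgeList : List (Nat × Nat) := [(0, 1), (1, 2), (2, 3), (3, 4), (4, 5), (5, 6), (3, 7), (7, 8)]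

/-- Joined letters. -/
def joined (a b : Nat) : Bool :=
  edgeList.any fun e => (Nat.beq e.1 a && Nat.beq e.2 b) || (Nat.beq e.1 b && Nat.beq e.2 a)

/-- One move at a position: 0 cancels, 1 interchanges, 2 braids. -/
def moveAt (kind : Nat) : List Nat → Option (List Nat)
  | a :: b :: t =>
    if Nat.beq kind 0 then (if Nat.beq a b && Nat.blt a 9 then some t else none)
    else if Nat.beq kind 1 then
      (if !(joined a b) && !(Nat.beq a b) && Nat.blt a 9 && Nat.blt b 9 then some (b :: a :: t) else none)
    else match t with
      | c :: t' => if joined a b && Nat.beq a c then some (b :: a :: b :: t') else none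
      | [] => none
  | _ => none

/-- One move after `n` letters. -/
def moveIn (kind : Nat) : Nat → List Nat → Option (List Nat)
  | 0, w => moveAt kind w
  | _ + 1, [] => none
  | n + 1, a :: w => (moveIn kind n w).map (a :: ·)

/-- The moves reduce the word to the empty word. -/
def reduces : List Nat → List Nat → Bool
  | [], w => w.isEmpty
  | m :: ms, w => match moveIn (m % 4) (m / 4) w with
    | some w' => reduces ms w'
    | none => false

variable {G : Type*} [Group G]

/-- The value of a word. -/
def val (y : ℕ → G) (w : List ℕ) : G := (w.map y).prod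

theorem val_nil (y : ℕ → G) : val y [] = 1 := rfl

theorem val_cons (y : ℕ → G) (a : ℕ) (w : List ℕ) : val y (a :: w) = y a * val y w := by simp [val]

theorem val_append (y : ℕ → G) (u w : List ℕ) : val y (u ++ w) = val y u * val y w := by simp [val]

/-- The relations of the graph. -/
structure CoxRel (y : ℕ → G) : Prop where
  sq : ∀ a, a < 9 → y a * y a = 1
  comm : ∀ a b, a < 9 → b < 9 → a ≠ b → joined a b = false → y a * y b = y b * y a
  braid : ∀ a b, joined a b = true → y a * y b * y a = y b * y a * y b

namespace CoxRel

variable {y : ℕ → G} (hy : CoxRel y)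
include hy

theorem moveAt_val {kind : ℕ} {w w' : List ℕ} (h : moveAt kind w = some w') : val y w = val y w' := by
  rcases w with _ | ⟨a, _ | ⟨b, t⟩⟩
  · simp [moveAt] at h
  · simp [moveAt] at h
  simp only [moveAt, Nat.beq_eq, Bool.and_eq_true, Nat.blt_eq, Bool.not_eq_true'] at h
  split_ifs at h with h1 h2 h3 h4
  · obtain ⟨rfl, ha⟩ := h2
    rw [Option.some.injEq] at h
    rw [← h, val_cons, val_cons, ← mul_assoc, hy.sq _ ha, one_mul]
  · rw [Option.some.injEq] at h
    rw [← h, val_cons, val_cons, val_cons, val_cons, ← mul_assoc, ← mul_assoc]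
    congr 1
    obtain ⟨⟨⟨hj, hne⟩, ha⟩, hb⟩ := h4
    exact hy.comm a b ha hb (fun e => by simp [e] at hne) hj
  · rcases t with _ | ⟨c, t⟩
    · simp at h
    · simp only [Bool.and_eq_true, Nat.beq_eq] at h
      split_ifs at h with h5
      rw [Option.some.injEq] at h
      obtain ⟨hj, rfl⟩ := h5
      rw [← h]
      simp only [val_cons, ← mul_assoc]
      rw [hy.braid a b hj]

theorem moveIn_val {kind : ℕ} : ∀ {n : ℕ} {w w' : List ℕ}, moveIn kind n w = some w' → val y w = val y w'
  | 0, _, _, h => hy.moveAt_val h
  | _ + 1, [], _, h => by simp [moveIn] at h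
  | n + 1, a :: w, w', h => by
    simp only [moveIn, Option.map_eq_some_iff] at h
    obtain ⟨v, hv, rfl⟩ := h
    rw [val_cons, val_cons, moveIn_val hv]

theorem of_reduces : ∀ {ms w : List ℕ}, reduces ms w = true → val y w = 1
  | [], w, h => by
    rcases w with _ | ⟨a, w⟩
    · rfl
    · simp [reduces] at h
  | m :: ms, w, h => by
    simp only [reduces] at h
    split at h
    · rename_i w' hw'
      rw [hy.moveIn_val hw', of_reduces h]
    · exact absurd h (by simp)

theorem val_reverse {w : List ℕ} (hw : ∀ a ∈ w, a < 9) : val y w.reverse = (val y w)⁻¹ := by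
  induction w with
  | nil => simp [val]
  | cons a t ih =>
    rw [List.reverse_cons, val_append, ih fun b hb => hw b (by simp [hb]), val_cons, val_cons, val_nil, mul_one,
      mul_inv_rev, inv_eq_of_mul_eq_one_right (hy.sq a (hw a (by simp)))]

/-- Two words that differ by moves have the same value. -/
theorem eq_of_reduces {ms u w : List ℕ} (hw : ∀ a ∈ w, a < 9) (h : reduces ms (u ++ w.reverse) = true) :
    val y u = val y w := by
  have := hy.of_reduces h
  rw [val_append, hy.val_reverse hw, mul_inv_eq_one] at this
  exact this

end CoxRel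

end Cfsg.Lib.Fischer.Fi22Recog
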