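import Cfsg.Agent.Lib.Fischer.Fi22Recog.TraceChecks
import Cfsg.Agent.Lib.Fischer.Fi22Recog.RelData
import Cfsg.Agent.Lib.Fischer.Fi22Recog.Rewriting

/-!
# The certificates for the relators are correct
-/

set_option autoImplicit false
set_option maxRecDepth 100000

namespace Cfsg.Lib.Fischer.Fi22Recog

open Data

/-- The letters of the generators in the neighbourhood. -/
def innerLetter (l : Nat) : Bool := Nat.ble 2 l && Nat.blt l 9

/-- The point of a letter from 2 to 8. -/
def genCode (l : Nat) : Nat := gens.getD (l - 2) 0

/-- The points of a word. -/
def codes (w : List Nat) : List Nat := w.map genCode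

/-- A conjugate of a word. -/
def sandwich (u w : List Nat) : List Nat := u ++ w ++ u.reverse

/-- The first root member before conjugation. -/
def X1 : List Nat := sandwich [1] (sandwich w1 [0, 1, 0])

/-- The second root member. -/
def X2 : List Nat := sandwich [1] (sandwich w2 [1])

/-- The first root member. -/
def TH1 : List Nat := sandwich u1 X1

/-- The third member of the first triangle. -/
def EP : List Nat := sandwich we [1]

/-- The third member of the second triangle. -/
def HP : List Nat := sandwich wh [1]

/-- The word of a letter, 9 standing for the first root. -/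
def letterWord (l : Nat) : List Nat := if Nat.blt l 9 then [l] else TH1

/-- The point of a letter, 9 standing for the first root. -/
def letterCode (l : Nat) : Nat := if Nat.blt l 9 then genCode l else applyW (codes u1) r1.1

/-- The word of a listed member. -/
def memWord (m : Nat × List Nat × Nat) : List Nat :=
  sandwich (m.2.1.flatMap letterWord) (letterWord m.2.2)

/-- A listed member is given correctly. -/
def memOK (m : Nat × List Nat × Nat) : Bool :=
  (m.2.1.all fun l => innerLetter l || Nat.beq l 9) && (innerLetter m.2.2 || Nat.beq m.2.2 9) &&
    Nat.beq (applyW (m.2.1.map letterCode) (letterCode m.2.2)) m.1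

theorem gens_ok : ((List.range 7).all fun i => isPt (gens.getD i 0) && (List.range 7).all fun j =>
    (Nat.beq i j || (joined (i + 2) (j + 2) == !(Nat.beq (formc (gens.getD i 0) (gens.getD j 0)) 0)))) = true := by
  decide +kernel

theorem gens_inK : ((List.range 7).all fun i => inK (gens.getD i 0) == !(joined 1 (i + 2))) = true := by
  decide +kernel

theorem gens_inj : distinct gens = true := by decide +kernel

theorem words_inner : ((u1 ++ w1 ++ w2 ++ we ++ wh).all innerLetter) = true := by decide +kernel

theorem six1_ok : (six1.all memOK && pairOrth (six1.map (·.1)) && actZero (six1.map (·.1)) &&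
    distinct (six1.map (·.1))) = true := by decide +kernel

theorem six1_count : Nat.ble ((six1.map (·.1)).filter fun n => !(inK n)).length 3 &&
    Nat.ble 1 ((six1.map (·.1)).filter fun n => !(inK n)).length = true := by decide +kernel

theorem six2_ok : (six2.all memOK && pairOrth (six2.map (·.1) ++ [r2.1] ++ others)) = true := by decide +kernel

theorem six2_split : beqList ((six2.map (·.1)).take 3) [253, 80, 13] = true := by decide +kernel

/-- The six points whose product is the centre. -/
def sixHalf : List Nat := others ++ (six2.map (·.1)).drop 3 ++ [r2.1]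

theorem sixHalf_ok : (pairOrth sixHalf && actZero sixHalf && distinct sixHalf) = true := by decide +kernel

theorem sixHalf_count : ((sixHalf.map (applyW wit)).filter fun n => !(inK n)).length = 3 := by decide +kernel

theorem wit_pts : wit.all isPt = true := by decide +kernel

theorem five_ok : (pairOrth [253, 80, 13, 93, 173] && actZero [253, 80, 13, 93, 173] &&
    distinct [253, 80, 13, 93, 173] && onLine 253 80 13) = true := by decide +kernel

/-- The point of a root member is determined by its trace. -/
def rootOK (cs : List Nat) (r : Nat × List Nat × Nat) : Nat → Nat → Bool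
  | 0, _ => true
  | m + 1, n => (!(isPt n) || inK n || Nat.beq n r.1 ||
      r.2.1.any fun q => isPt q && (inK (trp n q) != inK (applyW cs.reverse q))) && rootOK cs r m (n + 1)

theorem root1 : rootOK (codes w1) r1 4096 0 = true := by decide +kernel

theorem root2 : rootOK (codes w2) r2 4096 0 = true := by decide +kernel

theorem rootE : rootOK (codes we) re 4096 0 = true := by decide +kernel

theorem rootH : rootOK (codes wh) rh 4096 0 = true := by decide +kernel

theorem root_witness : ([(w1, r1), (w2, r2), (we, re), (wh, rh)].all fun p =>
    isPt p.2.1 && isPt p.2.2.2 && (inK p.2.2.2 != inK (applyW (codes p.1).reverse p.2.2.2))) = true := by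
  decide +kernel

/-- The first triangle of points. -/
def tri1 : List Nat := [genCode 4, genCode 5, re.1]

/-- The second triangle of points. -/
def tri2 : List Nat := [genCode 7, genCode 8, rh.1]

/-- The translation of a triangle at a position. -/
def transl {α : Type} (d : α) (t : List α) (i : Nat) : List α :=
  [t.getD i d, t.getD ((i + 1) % 3) d, t.getD ((i + 2) % 3) d, t.getD ((i + 1) % 3) d]

/-- The word fixes every point. -/
def fixesAll (w : List Nat) : Nat → Nat → Bool
  | 0, _ => true
  | m + 1, n => (!(isPt n) || Nat.beq (applyW w n) n) && fixesAll w m (n + 1)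

/-- A commutator word of translations. -/
def commWord {α : Type} (u v : List α) : List α := u ++ v ++ u.reverse ++ v.reverse

theorem tri_commute : (pairOrth [] && tri1.all fun m => isPt m && tri2.all fun n =>
    isPt n && Nat.beq (formc m n) 0) = true := by decide +kernel

theorem transl_cube : ([(tri1, 0), (tri1, 1), (tri2, 0), (tri2, 2)].all fun p =>
    let l := transl 0 p.1 p.2
    !(Nat.beq (formc (l.getD 0 0) (trp (l.getD 1 0) (l.getD 2 0))) 0)) = true := by decide +kernel

theorem comm1 : fixesAll (commWord (transl 0 tri1 0) (transl 0 tri1 1)) 4096 0 = true := by decide +kernel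

theorem comm2 : fixesAll (commWord (transl 0 tri2 0) (transl 0 tri2 2)) 4096 0 = true := by decide +kernel

theorem zed : fixesAll (transl 0 tri1 0 ++ (transl 0 tri1 1).reverse ++
    (transl 0 tri2 0 ++ (transl 0 tri2 2).reverse)) 4096 0 = true := by decide +kernel

/-- A translation as a word. -/
def translWord (t : List (List Nat)) (i : Nat) : List Nat := (transl [] t i).flatten

/-- The first triangle as words. -/
def triW1 : List (List Nat) := [[4], [5], EP]

/-- The second triangle as words. -/
def triW2 : List (List Nat) := [[7], [8], HP]

/-- A conjugated cube of a word. -/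
def cube (u w : List Nat) : List Nat := sandwich u (w ++ w ++ w)

/-- The right side of the identity for the spider. -/
def spiderRHS : List Nat :=
  translWord triW1 0 ++ (translWord triW1 1).reverse ++ (translWord triW2 0 ++ (translWord triW2 2).reverse) ++
    cube [3, 4, 2, 3] (translWord triW1 0) ++ cube [4, 3] (translWord triW1 0) ++
    cube [3, 7, 4, 3] (translWord triW1 0).reverse ++ cube [7, 8, 3, 7, 4, 3] (translWord triW1 0).reverse

/-- A repeated word. -/
def rep (n : Nat) (w : List Nat) : List Nat := (List.replicate n w).flatten

theorem mv_rel1_ok : reduces mv_rel1 (rep 9 [0, 1, 2, 3, 4, 5, 7] ++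
    ([0] ++ six1.flatMap memWord).reverse) = true := by decide +kernel

theorem mv_rel2_ok : reduces mv_rel2 (rep 9 [1, 2, 3, 4, 5, 6, 7] ++
    (six2.flatMap memWord ++ X2).reverse) = true := by decide +kernel

theorem mv_spider_ok : reduces mv_spider (rep 10 [3, 2, 1, 3, 4, 5, 3, 7, 8] ++ spiderRHS.reverse) = true := by
  decide +kernel

theorem mv_aX1_ok : reduces mv_aX1 (sandwich [0] X1 ++ X1.reverse) = true := by decide +kernel

theorem mv_X2_ok : ([(2, mv_cX2), (3, mv_dX2), (4, mv_eX2), (5, mv_fX2), (6, mv_gX2), (7, mv_hX2)].all fun p =>
    reduces p.2 (sandwich [p.1] X2 ++ X2.reverse)) = true := by decide +kernel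

theorem mv_aXE_ok : reduces mv_aXE (sandwich [0] (sandwich [1, 0] EP) ++ (sandwich [1, 0] EP).reverse) = true := by
  decide +kernel

theorem mv_aXH_ok : reduces mv_aXH (sandwich [0] (sandwich [1, 0] HP) ++ (sandwich [1, 0] HP).reverse) = true := by
  decide +kernel

/-- The points generated. -/
def genList : List Nat :=
  genPairs.foldl (fun L p => L ++ [trp (L.getD p.1 0) (L.getD p.2 0)]) (gens ++ [re.1])

theorem genList_cover : ∀ n < 4096, isPt n = true → genList.contains n = true := by decide +kernel

theorem genPairs_ok : ((genPairs.zip (List.range genPairs.length)).all fun p =>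
    Nat.blt p.1.1 (8 + p.2) && Nat.blt p.1.2 (8 + p.2)) = true := by decide +kernel

end Cfsg.Lib.Fischer.Fi22Recog
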