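import Cfsg.Agent.Lib.Fischer.Fi22Recog.Trace
import Cfsg.Agent.Lib.Fischer.Fi22Recog.RelChecks

/-!
# Nine members of a class of type M(22) satisfying the relations of Fi22

With standard coordinates at `a` and a standard member `b` outside, seven points give members which together
with `a` and `b` satisfy the relations of the graph Y332 and the three further relators.
-/

set_option autoImplicit false
set_option linter.unusedSectionVars false
set_option maxRecDepth 100000

namespace Cfsg.Lib.Fischer.Fi22Recog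

open Cfsg Cfsg.Lib.Fischer Cfsg.Lib.Linear.Herm
open Cfsg.Lib.Fischer.Relations

variable {G : Type*} [Group G] [Finite G] {D : Set G}
  {F : Type} [Field F] [Fintype F] {hF : Fintype.card F = 2 ^ 2} {a b : G}

namespace Frame

variable (T : Frame D hF a b) (hT : ∀ n, isPt n = true → (Commute b (T.C.el n) ↔ inK n = true))

/-- The member of a letter. -/
def gen (l : ℕ) : G := if l = 0 then a else if l = 1 then b else T.C.el (genCode l)

theorem gen_zero : T.gen 0 = a := rfl

theorem gen_one : T.gen 1 = b := rfl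

theorem gen_inner {l : ℕ} (h : innerLetter l = true) :
    2 ≤ l ∧ l < 9 ∧ isPt (genCode l) = true ∧ T.gen l = T.C.el (genCode l) := by
  simp only [innerLetter, Bool.and_eq_true, Nat.ble_eq, Nat.blt_eq] at h
  refine ⟨h.1, h.2, ?_, by simp [gen, show l ≠ 0 by omega, show l ≠ 1 by omega]⟩
  have hall := gens_ok
  simp only [List.all_eq_true, Bool.and_eq_true, List.mem_range] at hall
  exact (hall (l - 2) (by omega)).1

theorem gen_mem (l : ℕ) (h : l < 9) : T.gen l ∈ D := by
  rcases Nat.lt_or_ge l 2 with h2 | h2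
  · interval_cases l
    · exact T.haD
    · exact T.hbD
  · obtain ⟨-, -, h3, h4⟩ := T.gen_inner (l := l) (by simp [innerLetter, h, h2])
    exact h4 ▸ T.C.mem_D h3

include hT

theorem commute_gen {i j : ℕ} (hi : i < 9) (hj : j < 9) (hij : i ≠ j) :
    Commute (T.gen i) (T.gen j) ↔ joined i j = false := by
  have hsymm : ∀ p < 9, ∀ q < 9, joined p q = joined q p := by decide +kernel
  wlog h : i < j generalizing i j
  · rw [show Commute (T.gen i) (T.gen j) ↔ Commute (T.gen j) (T.gen i) from ⟨fun h => h.symm, fun h => h.symm⟩,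
      hsymm i hi j hj]
    exact this hj hi (Ne.symm hij) (by omega)
  rcases Nat.lt_or_ge j 2 with h2 | h2
  · obtain rfl : i = 0 := by omega
    obtain rfl : j = 1 := by omega
    exact iff_of_false T.hab (by decide +kernel)
  obtain ⟨-, -, hjp, hje⟩ := T.gen_inner (l := j) (by simp [innerLetter, hj, h2])
  rcases Nat.lt_or_ge i 2 with h1 | h1
  · interval_cases i
    · refine iff_of_true (hje ▸ (T.C.mem hjp).2.2) ?_
      have hz : ∀ j < 9, 2 ≤ j → joined 0 j = false := by decide +kernel
      exact hz j hj h2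
    · rw [T.gen_one, hje, hT _ hjp]
      have hK := gens_inK
      simp only [List.all_eq_true, List.mem_range, beq_iff_eq] at hK
      have := hK (j - 2) (by omega)
      rw [show j - 2 + 2 = j by omega] at this
      rw [show genCode j = Data.gens.getD (j - 2) 0 from rfl, this]
      simp
  · obtain ⟨-, -, hip, hie⟩ := T.gen_inner (l := i) (by simp [innerLetter, hi, h1])
    rw [hie, hje, T.C.comm hip hjp]
    have hall := gens_ok
    simp only [List.all_eq_true, Bool.and_eq_true, Bool.or_eq_true, Nat.beq_eq, beq_iff_eq, List.mem_range] at hall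
    have := ((hall (i - 2) (by omega)).2 (j - 2) (by omega)).resolve_left (by omega)
    rw [show i - 2 + 2 = i by omega, show j - 2 + 2 = j by omega] at this
    rw [this]
    show formc (Data.gens.getD (i - 2) 0) (Data.gens.getD (j - 2) 0) = 0 ↔ _
    rw [Bool.not_eq_false', Nat.beq_eq]

theorem coxRel : CoxRel T.gen where
  sq i hi := mul_self T.hS.trans (T.gen_mem i hi)
  comm i j hi hj hij h := ((T.commute_gen hT hi hj hij).2 h).eq
  braid i j h := by
    have hlt : ∀ p ∈ edgeList, p.1 < 9 ∧ p.2 < 9 ∧ p.1 ≠ p.2 := by decide +kernel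
    have hij : i < 9 ∧ j < 9 ∧ i ≠ j := by
      simp only [joined, List.any_eq_true, Bool.or_eq_true, Bool.and_eq_true, Nat.beq_eq] at h
      obtain ⟨p, hp, h⟩ := h
      have := hlt p hp
      omega
    exact Lib.Fischer.braid T.hS.trans (T.gen_mem i hij.1) (T.gen_mem j hij.2.1)
      fun hc => by simp [(T.commute_gen hT hij.1 hij.2.1 hij.2.2).1 hc] at h

omit hT in
theorem val_codes {w : List ℕ} (hw : ∀ l ∈ w, innerLetter l = true) :
    (∀ y ∈ codes w, isPt y = true) ∧ val T.gen w = ((codes w).map T.C.el).prod := by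
  constructor
  · intro y hy
    obtain ⟨l, hl, rfl⟩ := List.mem_map.1 hy
    exact (T.gen_inner (hw l hl)).2.2.1
  · rw [val, codes, List.map_map]
    exact congrArg List.prod (List.map_congr_left fun l hl => (T.gen_inner (hw l hl)).2.2.2)

theorem val_sandwich {u w : List ℕ} (hu : ∀ l ∈ u, l < 9) :
    val T.gen (sandwich u w) = val T.gen u * val T.gen w * (val T.gen u)⁻¹ := by
  rw [sandwich, val_append, val_append, (T.coxRel hT).val_reverse hu]

theorem fixed_of_reduces {u w ms : List ℕ} (hu : ∀ l ∈ u, l < 9) (hw : ∀ l ∈ w, l < 9)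
    (h : reduces ms (sandwich u w ++ w.reverse) = true) : Commute (val T.gen u) (val T.gen w) := by
  have := (T.coxRel hT).eq_of_reduces hw h
  rw [T.val_sandwich hT hu, mul_inv_eq_iff_eq_mul] at this
  exact this

theorem letters_lt {w : List ℕ} (hw : ∀ l ∈ w, innerLetter l = true) : ∀ l ∈ w, l < 9 := fun l hl =>
  (T.gen_inner (hw l hl)).2.1

theorem conj_code {w : List ℕ} (hw : ∀ l ∈ w, innerLetter l = true) {n : ℕ} (hn : isPt n = true) :
    isPt (applyW (codes w) n) = true ∧
      val T.gen w * T.C.el n * (val T.gen w)⁻¹ = T.C.el (applyW (codes w) n) := by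
  obtain ⟨h1, h2⟩ := T.val_codes hw
  rw [h2]
  exact T.C.word T.hS h1 hn

omit hT in
/-- The trace of a conjugate of a member outside. -/
theorem conj_trace {cs : List ℕ} (hc : ∀ y ∈ cs, isPt y = true) {x : G}
    (hx : ∀ n, isPt n = true → (Commute x (T.C.el n) ↔ inK n = true)) {n : ℕ} (hn : isPt n = true) :
    Commute ((cs.map T.C.el).prod * x * ((cs.map T.C.el).prod)⁻¹) (T.C.el n) ↔
      inK (applyW cs.reverse n) = true := by
  obtain ⟨h1, h2⟩ := T.C.word T.hS (w := cs.reverse) (fun y hy => hc y (List.mem_reverse.1 hy)) hn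
  have hinv : ((cs.reverse).map T.C.el).prod = ((cs.map T.C.el).prod)⁻¹ := by
    clear h1 h2
    induction cs with
    | nil => simp
    | cons y t ih =>
      rw [List.reverse_cons, List.map_append, List.prod_append, ih (fun z hz => hc z (by simp [hz])),
        List.map_cons, List.map_cons, List.map_nil, List.prod_cons, List.prod_cons, List.prod_nil, mul_one,
        mul_inv_rev, inv_eq T.hS.trans (T.C.mem_D (hc y (by simp)))]
  rw [hinv, inv_inv] at h2
  obtain ⟨g, hg⟩ : ∃ g, g = (cs.map T.C.el).prod := ⟨_, rfl⟩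
  rw [← hg] at h2 ⊢
  rw [← Commute.conj_iff g⁻¹, inv_inv, show g⁻¹ * (g * x * g⁻¹) * g = x by group, h2]
  exact hx _ h1

theorem trace_aba {n : ℕ} (hn : isPt n = true) : Commute (cj a b) (T.C.el n) ↔ inK n = true := by
  rw [commute_cj_left T.hS.trans T.haD, cj_of_commute T.hS.trans T.haD (T.C.mem hn).2.2]
  exact hT n hn

/-- A member commuting with `a` whose image under `b` has a known trace is determined. -/
theorem root_point {w : List ℕ} (hw : ∀ l ∈ w, innerLetter l = true) {x₀ : G} (hx₀ : x₀ ∈ D)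
    (hax₀ : ¬ Commute a x₀) (htr : ∀ n, isPt n = true → (Commute x₀ (T.C.el n) ↔ inK n = true))
    {r : ℕ × List ℕ × ℕ} (hok : rootOK (codes w) r 4096 0 = true)
    (hwit : isPt r.2.2 = true ∧ inK r.2.2 ≠ inK (applyW (codes w).reverse r.2.2))
    (hX : Commute a (cj b (val T.gen w * x₀ * (val T.gen w)⁻¹))) :
    cj b (val T.gen w * x₀ * (val T.gen w)⁻¹) = T.C.el r.1 ∧ isPt r.1 = true := by
  have hD := T.hS.trans
  obtain ⟨hcs, hv⟩ := T.val_codes hw
  obtain ⟨g, hg⟩ : ∃ g, g = ((codes w).map T.C.el).prod := ⟨_, rfl⟩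
  rw [hv, ← hg] at hX ⊢
  have hga : Commute g a := hg ▸ Commute.list_prod_left _ _ fun y hy => by
    obtain ⟨n, hn, rfl⟩ := List.mem_map.1 hy
    exact (T.C.mem (hcs n hn)).2.2.symm
  have htrg : ∀ n, isPt n = true → (Commute (g * x₀ * g⁻¹) (T.C.el n) ↔
      inK (applyW (codes w).reverse n) = true) := fun n hn => hg ▸ T.conj_trace hcs htr hn
  obtain ⟨x, hx⟩ : ∃ x, x = g * x₀ * g⁻¹ := ⟨_, rfl⟩
  rw [← hx] at hX htrg ⊢
  have hxD : x ∈ D := hx ▸ hD.conj g x₀ hx₀
  have hax : ¬ Commute a x := fun h => hax₀ ((Commute.conj_iff g).1 (by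
    rwa [hga.eq, mul_inv_cancel_right, ← hx]))
  obtain ⟨X, hXdef⟩ : ∃ X, X = cj b x := ⟨_, rfl⟩
  rw [← hXdef] at hX ⊢
  have hxX : x = cj b X := by rw [hXdef, cj_cj hD T.hbD]
  have hXD : X ∈ D := hXdef ▸ cj_mem hD T.hbD hxD
  have hXa : X ≠ a := fun e => by
    have h1 : x = cj a b := by rw [hxX, e, ← braid hD T.haD T.hbD T.hab]
    have h2 := htrg _ hwit.1
    rw [h1, T.trace_aba hT hwit.1] at h2
    exact hwit.2 (Bool.eq_iff_iff.2 h2)
  obtain ⟨n, hn, hne⟩ := T.C.surj (x := X) ⟨hXD, hXa, hX⟩
  have hnK : inK n = false := by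
    by_contra h
    have hbX : Commute b X := hne ▸ (hT n hn).2 (by simpa using h)
    exact hax (by rw [hxX, cj_of_commute hD T.hbD hbX]; exact hX)
  have hbn : ¬ Commute b (T.C.el n) := fun h => by simp [(hT n hn).1 h] at hnK
  have key : ∀ q, isPt q = true → inK (trp n q) = inK (applyW (codes w).reverse q) := by
    intro q hq
    obtain ⟨h1, h2⟩ := T.C.conj hD hn hq
    refine Bool.eq_iff_iff.2 (Iff.trans ?_ (htrg q hq))
    rw [hxX, ← hne, braid hD T.hbD (T.C.mem_D hn) hbn, commute_cj_left hD (T.C.mem_D hn), h2]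
    exact (hT _ h1).symm
  have hget : ∀ (m s : ℕ), rootOK (codes w) r m s = true → ∀ j, s ≤ j → j < s + m → isPt j = true →
      inK j = false → j ≠ r.1 → ∃ q, isPt q = true ∧ inK (trp j q) ≠ inK (applyW (codes w).reverse q) := by
    intro m
    induction m with
    | zero => intro s _ j h1 h2; omega
    | succ m ih =>
      intro s h j h1 h2 hj hjK hjr
      rw [rootOK, Bool.and_eq_true] at h
      by_cases hjs : j = s
      · subst hjs
        simp only [hj, hjK, Bool.not_true, Bool.false_or, Bool.or_eq_true, Nat.beq_eq, hjr, false_or,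
          List.any_eq_true, Bool.and_eq_true, bne_iff_ne] at h
        obtain ⟨⟨q, -, hq, hne⟩, -⟩ := h
        exact ⟨q, hq, hne⟩
      · exact ih (s + 1) h.2 j (by omega) (by omega) hj hjK hjr
  have hr : n = r.1 := by
    by_contra hcon
    obtain ⟨q, hq, hne'⟩ := hget 4096 0 hok n (Nat.zero_le _) (by have := (isPt_spec hn).2.1; omega) hn hnK hcon
    exact hne' (key q hq)
  exact ⟨by rw [← hr, hne], hr ▸ hn⟩

omit hT in
theorem witnesses : ∀ p ∈ [(Data.w1, Data.r1), (Data.w2, Data.r2), (Data.we, Data.re), (Data.wh, Data.rh)],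
    isPt p.2.2.2 = true ∧ inK p.2.2.2 ≠ inK (applyW (codes p.1).reverse p.2.2.2) := by
  intro p hp
  have h := root_witness
  simp only [List.all_eq_true, Bool.and_eq_true, bne_iff_ne] at h
  exact ⟨(h p hp).1.2, (h p hp).2⟩

omit hT in
theorem inner_words : (∀ l ∈ Data.u1, innerLetter l = true) ∧ (∀ l ∈ Data.w1, innerLetter l = true) ∧
    (∀ l ∈ Data.w2, innerLetter l = true) ∧ (∀ l ∈ Data.we, innerLetter l = true) ∧
      ∀ l ∈ Data.wh, innerLetter l = true := by
  have h := words_inner
  simp only [List.all_eq_true, List.mem_append] at h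
  exact ⟨fun l hl => h l (by tauto), fun l hl => h l (by tauto), fun l hl => h l (by tauto),
    fun l hl => h l (by tauto), fun l hl => h l (by tauto)⟩

theorem val_X1 : val T.gen X1 = T.C.el Data.r1.1 ∧ isPt Data.r1.1 = true := by
  obtain ⟨-, hw, -, -, -⟩ := inner_words
  have hlt := T.letters_lt hT hw
  have e : val T.gen X1 = cj b (val T.gen Data.w1 * cj a b * (val T.gen Data.w1)⁻¹) := by
    rw [X1, T.val_sandwich hT (by simp), T.val_sandwich hT hlt, cj_conj T.hS.trans T.hbD, cj_def]
    simp [val, gen, mul_assoc]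
  rw [e]
  refine T.root_point hT hw (cj_mem T.hS.trans T.haD T.hbD) (not_commute_cj T.hS.trans T.haD T.hab)
    (fun n hn => T.trace_aba hT hn) root1 (witnesses (Data.w1, Data.r1) (by simp)) ?_
  rw [← e]
  have := T.fixed_of_reduces hT (u := [0]) (by simp) (by decide +kernel) mv_aX1_ok
  simpa [val, gen] using this

theorem val_TH1 : val T.gen TH1 = T.C.el (letterCode 9) ∧ isPt (letterCode 9) = true := by
  obtain ⟨hu, -, -, -, -⟩ := inner_words
  obtain ⟨h1, h2⟩ := T.val_X1 hT
  obtain ⟨h3, h4⟩ := T.conj_code hT hu h2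
  rw [TH1, T.val_sandwich hT (T.letters_lt hT hu), h1, h4]
  simpa [letterCode] using h3

theorem val_letter {l : ℕ} (h : innerLetter l = true ∨ l = 9) :
    isPt (letterCode l) = true ∧ val T.gen (letterWord l) = T.C.el (letterCode l) ∧ ∀ i ∈ letterWord l, i < 9 := by
  rcases h with h | rfl
  · obtain ⟨-, h2, h3, h4⟩ := T.gen_inner h
    simp only [letterCode, letterWord, Nat.blt_eq, h2, if_true]
    exact ⟨h3, by simpa [val] using h4, by simp [h2]⟩
  · obtain ⟨h1, h2⟩ := T.val_TH1 hT
    refine ⟨h2, by simpa [letterWord] using h1, ?_⟩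
    decide +kernel

theorem val_mem {m : ℕ × List ℕ × ℕ} (h : memOK m = true) :
    val T.gen (memWord m) = T.C.el m.1 ∧ ∀ i ∈ memWord m, i < 9 := by
  simp only [memOK, Bool.and_eq_true, List.all_eq_true, Bool.or_eq_true, Nat.beq_eq] at h
  obtain ⟨⟨hf, hc⟩, he⟩ := h
  have hcode : ∀ y ∈ m.2.1.map letterCode, isPt y = true := fun y hy => by
    obtain ⟨l, hl, rfl⟩ := List.mem_map.1 hy
    exact (T.val_letter hT (hf l hl)).1
  have hflt : ∀ i ∈ m.2.1.flatMap letterWord, i < 9 := fun i hi => by
    obtain ⟨l, hl, hil⟩ := List.mem_flatMap.1 hi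
    exact (T.val_letter hT (hf l hl)).2.2 i hil
  have key : ∀ fw : List ℕ, (∀ l ∈ fw, innerLetter l = true ∨ l = 9) →
      val T.gen (fw.flatMap letterWord) = ((fw.map letterCode).map T.C.el).prod := by
    intro fw
    induction fw with
    | nil => intro _; simp [val]
    | cons l t ih =>
      intro hf
      rw [List.flatMap_cons, val_append, ih fun x hx => hf x (by simp [hx]),
        (T.val_letter hT (hf l (by simp))).2.1]
      simp
  have hfv := key m.2.1 hf
  obtain ⟨hcp, hcv, hclt⟩ := T.val_letter hT hc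
  refine ⟨?_, ?_⟩
  · rw [memWord, T.val_sandwich hT hflt, hfv, hcv, (T.C.word T.hS hcode hcp).2, he]
  · intro i hi
    simp only [memWord, sandwich, List.mem_append, List.mem_reverse] at hi
    rcases hi with (hi | hi) | hi
    exacts [hflt i hi, hclt i hi, hflt i hi]

theorem val_mems {ms : List (ℕ × List ℕ × ℕ)} (h : ms.all memOK = true) :
    val T.gen (ms.flatMap memWord) = ((ms.map (·.1)).map T.C.el).prod ∧
      ∀ i ∈ ms.flatMap memWord, i < 9 := by
  induction ms with
  | nil => simp [val]
  | cons m t ih =>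
    simp only [List.all_cons, Bool.and_eq_true] at h
    obtain ⟨h1, h2⟩ := T.val_mem hT h.1
    obtain ⟨h3, h4⟩ := ih h.2
    refine ⟨by rw [List.flatMap_cons, val_append, h1, h3]; simp, fun i hi => ?_⟩
    rcases List.mem_append.1 (List.flatMap_cons ▸ hi) with hi | hi
    exacts [h2 i hi, h4 i hi]

theorem val_rep (n : ℕ) (w : List ℕ) : val T.gen (rep n w) = val T.gen w ^ n := by
  induction n with
  | zero => simp [rep, val]
  | succ n ih =>
    rw [rep, List.replicate_succ, List.flatten_cons, val_append, pow_succ']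
    exact congrArg _ ih

omit hT in
/-- A commuting list with vanishing displacement on which some member outside fails to commute with one to
three has product `a`. -/
theorem prod_eq_centre {l : List ℕ} (ho : pairOrth l = true) (h0 : actZero l = true) (hd : distinct l = true)
    {x : G} (hx : x ∈ D) {f : ℕ → Bool} (hf : ∀ n ∈ l, (Commute x (T.C.el n) ↔ f n = true))
    (h1 : 1 ≤ (l.filter fun n => !(f n)).length) (h3 : (l.filter fun n => !(f n)).length ≤ 3) :
    (l.map T.C.el).prod = a := by
  classical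
  refine (T.C.prod_cases T.hS T.haD ho h0).resolve_left fun e => ?_
  have hl := (Chart.pairOrth_spec ho).1
  have hfilter : (l.map T.C.el).filter (fun z => decide (¬ Commute x z)) =
      (l.filter fun n => !(f n)).map T.C.el := by
    rw [List.filter_map]
    congr 1
    refine List.filter_congr fun n hn => ?_
    simp only [Function.comp_apply, hf n hn]
    cases f n <;> simp
  rcases Relations.pattern T.hS.trans hx (T.C.nodup_list hl (distinct_nodup hd))
    (fun z hz => by
      obtain ⟨n, hn, rfl⟩ := List.mem_map.1 hz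
      exact T.C.mem_D (hl n hn))
    (T.C.commute_list ho) (e ▸ Commute.one_left x) with h | h <;>
  · rw [hfilter, List.length_map] at h
    omega

theorem rel1 : val T.gen [0, 1, 2, 3, 4, 5, 7] ^ 9 = 1 := by
  have hok := six1_ok
  simp only [Bool.and_eq_true] at hok
  obtain ⟨hv, hlt⟩ := T.val_mems hT hok.1.1.1
  have hc := six1_count
  simp only [Bool.and_eq_true, Nat.ble_eq, decide_eq_true_eq] at hc
  have hp := T.prod_eq_centre hok.1.1.2 hok.1.2 hok.2 T.hbD (f := inK)
    (fun n hn => hT n ((Chart.pairOrth_spec hok.1.1.2).1 n hn)) hc.2 hc.1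
  rw [← T.val_rep hT, (T.coxRel hT).eq_of_reduces (w := [0] ++ Data.six1.flatMap memWord) (fun i hi => by
      rcases List.mem_append.1 hi with hi | hi
      · rw [List.mem_singleton.1 hi]; norm_num
      · exact hlt i hi) mv_rel1_ok, val_append, hv, hp]
  simp [val, gen, mul_self T.hS.trans T.haD]

theorem val_X2 : val T.gen X2 = T.C.el Data.r2.1 := by
  obtain ⟨-, -, hw, -, -⟩ := inner_words
  have hD := T.hS.trans
  have hlt := T.letters_lt hT hw
  have e : val T.gen X2 = cj b (val T.gen Data.w2 * b * (val T.gen Data.w2)⁻¹) := by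
    rw [X2, T.val_sandwich hT (by simp), T.val_sandwich hT hlt, cj_conj hD T.hbD]
    simp [val, gen, mul_assoc]
  rw [e]
  refine (T.root_point hT hw T.hbD T.hab hT root2 (witnesses (Data.w2, Data.r2) (by simp)) ?_).1
  rw [← e]
  have hXD : val T.gen X2 ∈ D := e ▸ cj_mem hD T.hbD (hD.conj _ _ T.hbD)
  have hx : ∀ p ∈ [(2, Data.mv_cX2), (3, Data.mv_dX2), (4, Data.mv_eX2), (5, Data.mv_fX2), (6, Data.mv_gX2),
      (7, Data.mv_hX2)], Commute (val T.gen X2) (T.gen p.1) := by
    intro p hp
    have h := mv_X2_ok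
    simp only [List.all_eq_true] at h
    have h9 : p.1 < 9 := by
      simp only [List.mem_cons, List.not_mem_nil, or_false] at hp
      rcases hp with rfl | rfl | rfl | rfl | rfl | rfl <;> norm_num
    have := (T.fixed_of_reduces hT (u := [p.1]) (by simp [h9]) (by decide +kernel) (h p hp)).symm
    simpa [val] using this
  by_contra hax
  obtain ⟨-, -, h2p, h2e⟩ := T.gen_inner (l := 2) (by decide)
  obtain ⟨-, -, h4p, h4e⟩ := T.gen_inner (l := 4) (by decide)
  obtain ⟨-, -, h6p, h6e⟩ := T.gen_inner (l := 6) (by decide)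
  have h5 := five_ok
  simp only [Bool.and_eq_true] at h5
  exact T.no_three hXD (fun h => hax h) h2p h4p h6p (by decide +kernel) (by decide +kernel) (by decide +kernel)
    (h2e ▸ hx (2, Data.mv_cX2) (by simp)) (h4e ▸ hx (4, Data.mv_eX2) (by simp))
    (h6e ▸ hx (6, Data.mv_gX2) (by simp))

theorem rel2 : val T.gen [1, 2, 3, 4, 5, 6, 7] ^ 9 = 1 := by
  have hok := six2_ok
  simp only [Bool.and_eq_true] at hok
  obtain ⟨hv, hlt⟩ := T.val_mems hT hok.1
  have hX := T.val_X2 hT
  have h5 := five_ok
  simp only [Bool.and_eq_true] at h5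
  have hfive : ([253, 80, 13, 93, 173].map T.C.el).prod = a := by
    refine Relations.line_prod T.hS.trans (RadicalAbelian.fourField hF) (hB_isSymm hF 6) (hB_nondegenerate hF 6)
      (by rw [Module.finrank_fin_fun]; norm_num) T.hS.prim T.hS.centre T.hS.sep T.haD T.C.U
      (b := T.C.el 253) (t := [80, 13, 93, 173].map T.C.el) rfl
      (T.C.nodup_list (Chart.pairOrth_spec h5.1.1.1).1 (distinct_nodup h5.1.2)) (fun x hx => ?_)
      (T.C.commute_list h5.1.1.1) (T.C.central h5.1.1.1 h5.1.1.2)
    obtain ⟨n, hn, rfl⟩ := List.mem_map.1 (show x ∈ [253, 80, 13, 93, 173].map T.C.el from hx)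
    exact T.C.mem ((Chart.pairOrth_spec h5.1.1.1).1 n hn)
  have hs := sixHalf_ok
  simp only [Bool.and_eq_true] at hs
  have hw : ∀ y ∈ Data.wit, isPt y = true := by simpa using wit_pts
  have hsix : (sixHalf.map T.C.el).prod = a := by
    have hwr : ∀ y ∈ Data.wit.reverse, isPt y = true := fun y hy => hw y (List.mem_reverse.1 hy)
    have hwit : (sixHalf.filter fun n => !(inK (applyW Data.wit n))).length = 3 := by
      have := sixHalf_count
      rwa [List.filter_map, List.length_map] at this
    refine T.prod_eq_centre hs.1.1 hs.1.2 hs.2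
      (x := (Data.wit.reverse.map T.C.el).prod * b * ((Data.wit.reverse.map T.C.el).prod)⁻¹)
      (T.hS.trans.conj _ _ T.hbD) (f := fun n => inK (applyW Data.wit n)) (fun n hn => ?_)
      (by rw [hwit]; norm_num) hwit.le
    have := T.conj_trace hwr hT ((Chart.pairOrth_spec hs.1.1).1 n hn)
    rwa [List.reverse_reverse] at this
  rw [← T.val_rep hT, (T.coxRel hT).eq_of_reduces (w := Data.six2.flatMap memWord ++ X2) (fun i hi => by
      rcases List.mem_append.1 hi with hi | hi
      · exact hlt i hi
      · revert hi; revert i; decide +kernel) mv_rel2_ok, val_append, hv, hX]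
  have hsplit : Data.six2.map (·.1) = [253, 80, 13] ++ (Data.six2.map (·.1)).drop 3 := by
    conv_lhs => rw [← List.take_append_drop 3 (Data.six2.map (·.1)), beqList_eq six2_split]
  obtain ⟨P, hP⟩ : ∃ P, P = (((Data.six2.map (·.1)).drop 3).map T.C.el).prod := ⟨_, rfl⟩
  rw [hsplit, List.map_append, List.prod_append, ← hP]
  rw [sixHalf, List.map_append, List.map_append, List.prod_append, List.prod_append, ← hP] at hsix
  have h93 : isPt 93 = true ∧ isPt 173 = true ∧ formc 93 173 = 0 := by decide +kernel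
  have hc := (T.C.comm h93.1 h93.2.1).2 h93.2.2
  have hsq : T.C.el 93 * T.C.el 173 * (T.C.el 93 * T.C.el 173) = 1 := by
    rw [← pow_two, hc.mul_pow, pow_two, pow_two, mul_self T.hS.trans (T.C.mem_D h93.1),
      mul_self T.hS.trans (T.C.mem_D h93.2.1), one_mul]
  simp only [Data.others, List.map_cons, List.map_nil, List.prod_cons, List.prod_nil, mul_one, mul_assoc] at hfive hsix ⊢
  calc T.C.el 253 * (T.C.el 80 * (T.C.el 13 * (P * T.C.el Data.r2.1)))
      = T.C.el 253 * (T.C.el 80 * (T.C.el 13 * (T.C.el 93 * T.C.el 173 * (T.C.el 93 * T.C.el 173) *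
          (P * T.C.el Data.r2.1)))) := by rw [hsq, one_mul]
    _ = T.C.el 253 * (T.C.el 80 * (T.C.el 13 * (T.C.el 93 * T.C.el 173))) *
          (T.C.el 93 * (T.C.el 173 * (P * T.C.el Data.r2.1))) := by simp only [mul_assoc]
    _ = 1 := by rw [hfive, hsix, mul_self T.hS.trans T.haD]

theorem fixes_cases {l : List ℕ} (hl : ∀ y ∈ l, isPt y = true) (h : fixesAll l 4096 0 = true) :
    (l.map T.C.el).prod = 1 ∨ (l.map T.C.el).prod = a := by
  have hget : ∀ (m s : ℕ), fixesAll l m s = true → ∀ j, s ≤ j → j < s + m → isPt j = true → applyW l j = j := by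
    intro m
    induction m with
    | zero => intro s _ j h1 h2; omega
    | succ m ih =>
      intro s h j h1 h2 hj
      rw [fixesAll, Bool.and_eq_true] at h
      by_cases hjs : j = s
      · subst hjs
        simpa [hj] using h.1
      · exact ih (s + 1) h.2 j (by omega) (by omega) hj
  refine eq_or_eq_of_centralizes T.hS.fischer T.hS.data T.haD T.hS.prim T.hS.centre
    (Commute.list_prod_left _ _ fun z hz => by
      obtain ⟨n, hn, rfl⟩ := List.mem_map.1 hz
      exact (T.C.mem (hl n hn)).2.2.symm) fun y hy => ?_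
  obtain ⟨n, hn, rfl⟩ := T.C.surj hy
  have h1 := (T.C.word T.hS hl hn).2
  rw [hget 4096 0 h n (Nat.zero_le _) (by have := (isPt_spec hn).2.1; omega) hn, mul_inv_eq_iff_eq_mul] at h1
  exact h1

omit hT in
theorem prod_reverse {l : List ℕ} (hl : ∀ y ∈ l, isPt y = true) :
    (l.reverse.map T.C.el).prod = ((l.map T.C.el).prod)⁻¹ := by
  induction l with
  | nil => simp
  | cons y t ih =>
    rw [List.reverse_cons, List.map_append, List.prod_append, ih fun z hz => hl z (by simp [hz])]
    simp [mul_inv_rev, inv_eq T.hS.trans (T.C.mem_D (hl y (by simp)))]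

omit hT in
theorem transl_pts : ∀ t ∈ [tri1, tri2], ∀ i < 3, ∀ y ∈ transl 0 t i, isPt y = true := by
  decide +kernel

omit hT in
theorem transl_pow {t : List ℕ} {i : ℕ} (h : (t, i) ∈ [(tri1, 0), (tri1, 1), (tri2, 0), (tri2, 2)]) :
    ((transl 0 t i).map T.C.el).prod ^ 3 = 1 := by
  have hn := transl_cube
  simp only [List.all_eq_true, Bool.not_eq_true'] at hn
  have hne : formc ((transl 0 t i).getD 0 0) (trp ((transl 0 t i).getD 1 0) ((transl 0 t i).getD 2 0)) ≠ 0 :=
    fun h0 => by have := hn (t, i) h; dsimp only at this; rw [h0] at this; simp at this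
  have hp : ∀ y ∈ transl 0 t i, isPt y = true := by
    simp only [List.mem_cons, List.not_mem_nil, or_false, Prod.mk.injEq] at h
    rcases h with ⟨rfl, rfl⟩ | ⟨rfl, rfl⟩ | ⟨rfl, rfl⟩ | ⟨rfl, rfl⟩ <;>
      exact transl_pts _ (by simp) _ (by norm_num)
  simp only [transl, List.mem_cons, List.not_mem_nil, or_false, forall_eq_or_imp, forall_eq, List.getD_cons_zero,
    List.getD_cons_succ] at hp hne ⊢
  obtain ⟨hu, hv, hw, -⟩ := hp
  obtain ⟨h1, h2⟩ := T.C.conj T.hS.trans hv hw
  simp only [List.map_cons, List.map_nil, List.prod_cons, List.prod_nil, mul_one]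
  rw [show ∀ u v w : G, u * (v * (w * v)) = u * cj v w from fun u v w => by rw [cj_def, mul_assoc v w v], h2]
  exact Lib.Fischer.orderOf_mul T.hS.trans _ _ (T.C.mem_D hu) (T.C.mem_D h1) fun hc => hne ((T.C.comm hu h1).1 hc)

theorem zed_one : ((transl 0 tri1 0 ++ (transl 0 tri1 1).reverse ++
    (transl 0 tri2 0 ++ (transl 0 tri2 2).reverse)).map T.C.el).prod = 1 := by
  have p : ∀ t ∈ [tri1, tri2], ∀ i < 3, ∀ y ∈ transl 0 t i, isPt y = true := transl_pts
  have ha3 : a ^ 3 = a := by rw [pow_succ, pow_two, mul_self T.hS.trans T.haD, one_mul]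
  have hane : a ≠ 1 := ne_one T.hS.trans T.haD
  have hcomm : ∀ (t : List ℕ) (i j : ℕ), t ∈ [tri1, tri2] → i < 3 → j < 3 →
      fixesAll (commWord (transl 0 t i) (transl 0 t j)) 4096 0 = true →
      ((transl 0 t i).map T.C.el).prod ^ 3 = 1 → ((transl 0 t j).map T.C.el).prod ^ 3 = 1 →
      Commute ((transl 0 t i).map T.C.el).prod ((transl 0 t j).map T.C.el).prod := by
    intro t i j ht hi hj hf h3i h3j
    have hl : ∀ y ∈ commWord (transl 0 t i) (transl 0 t j), isPt y = true := by
      intro y hy
      simp only [commWord, List.mem_append, List.mem_reverse] at hy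
      rcases hy with ((hy | hy) | hy) | hy
      exacts [p t ht i hi y hy, p t ht j hj y hy, p t ht i hi y hy, p t ht j hj y hy]
    have h := T.fixes_cases hT hl hf
    simp only [commWord, List.map_append, List.prod_append, T.prod_reverse (p t ht i hi),
      T.prod_reverse (p t ht j hj)] at h
    have hac : Commute a ((transl 0 t j).map T.C.el).prod := Commute.list_prod_right _ _ fun z hz => by
      obtain ⟨n, hn, rfl⟩ := List.mem_map.1 hz
      exact (T.C.mem (p t ht j hj n hn)).2.2
    revert h h3i h3j hac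
    generalize ((transl 0 t i).map T.C.el).prod = u
    generalize ((transl 0 t j).map T.C.el).prod = v
    intro h3i h3j h hac
    rcases h with h | h
    · rw [mul_inv_eq_one, mul_inv_eq_iff_eq_mul] at h
      exact h
    · exfalso
      have e1 : u * v * u⁻¹ = a * v := by rw [← h, inv_mul_cancel_right]
      have e2 := congrArg (· ^ 3) e1
      rw [conj_pow, h3j, mul_one, mul_inv_cancel, hac.mul_pow, h3j, mul_one, ha3] at e2
      exact hane e2.symm
  have hc1 := hcomm tri1 0 1 (by simp) (by norm_num) (by norm_num) comm1 (T.transl_pow (by simp))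
    (T.transl_pow (by simp))
  have hc2 := hcomm tri2 0 2 (by simp) (by norm_num) (by norm_num) comm2 (T.transl_pow (by simp))
    (T.transl_pow (by simp))
  have hall : ∀ y ∈ transl 0 tri1 0 ++ (transl 0 tri1 1).reverse ++
      (transl 0 tri2 0 ++ (transl 0 tri2 2).reverse), isPt y = true := by decide +kernel
  have h := T.fixes_cases hT hall zed
  have hcross : ∀ x ∈ (transl 0 tri1 0 ++ (transl 0 tri1 1).reverse).map T.C.el,
      ∀ y ∈ (transl 0 tri2 0 ++ (transl 0 tri2 2).reverse).map T.C.el, Commute x y := by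
    intro x hx y hy
    obtain ⟨m, hm, rfl⟩ := List.mem_map.1 hx
    obtain ⟨n, hn, rfl⟩ := List.mem_map.1 hy
    refine (T.C.comm (hall m (List.mem_append_left _ hm)) (hall n (List.mem_append_right _ hn))).2 ?_
    have hm' : ∀ m ∈ transl 0 tri1 0 ++ (transl 0 tri1 1).reverse, m ∈ tri1 := by decide +kernel
    have hn' : ∀ n ∈ transl 0 tri2 0 ++ (transl 0 tri2 2).reverse, n ∈ tri2 := by decide +kernel
    have ht := tri_commute
    simp only [Bool.and_eq_true, List.all_eq_true, Nat.beq_eq] at ht
    exact ((ht.2 m (hm' m hm)).2 n (hn' n hn)).2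
  refine h.resolve_right fun e => hane ?_
  have hc12 : Commute ((transl 0 tri1 0 ++ (transl 0 tri1 1).reverse).map T.C.el).prod
      ((transl 0 tri2 0 ++ (transl 0 tri2 2).reverse).map T.C.el).prod :=
    Commute.list_prod_left _ _ fun x hx => Commute.list_prod_right _ _ (hcross x hx)
  have key : ∀ (t : List ℕ) (i j : ℕ), (t, i) ∈ [(tri1, 0), (tri1, 1), (tri2, 0), (tri2, 2)] →
      (t, j) ∈ [(tri1, 0), (tri1, 1), (tri2, 0), (tri2, 2)] →
      (∀ y ∈ transl 0 t j, isPt y = true) →
      Commute ((transl 0 t i).map T.C.el).prod ((transl 0 t j).map T.C.el).prod →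
      ((transl 0 t i ++ (transl 0 t j).reverse).map T.C.el).prod ^ 3 = 1 := by
    intro t i j h1 h2 hp hc
    rw [List.map_append, List.prod_append, T.prod_reverse hp, hc.inv_right.mul_pow, T.transl_pow h1, inv_pow,
      T.transl_pow h2, inv_one, one_mul]
  rw [List.map_append, List.prod_append] at e
  have e3 := congrArg (· ^ 3) e
  rw [hc12.mul_pow, key tri1 0 1 (by simp) (by simp) (p _ (by simp) _ (by norm_num)) hc1,
    key tri2 0 2 (by simp) (by simp) (p _ (by simp) _ (by norm_num)) hc2, one_mul, ha3] at e3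
  exact e3.symm

theorem val_third {w : List ℕ} (hw : ∀ l ∈ w, innerLetter l = true) {r : ℕ × List ℕ × ℕ} {ms : List ℕ}
    (hok : rootOK (codes w) r 4096 0 = true)
    (hwit : isPt r.2.2 = true ∧ inK r.2.2 ≠ inK (applyW (codes w).reverse r.2.2))
    (hms : reduces ms (sandwich [0] (sandwich [1, 0] (sandwich w [1])) ++
      (sandwich [1, 0] (sandwich w [1])).reverse) = true) :
    b * a * val T.gen (sandwich w [1]) * (b * a)⁻¹ = T.C.el r.1 := by
  have hD := T.hS.trans
  have hlt := T.letters_lt hT hw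
  have hga : Commute (val T.gen w) a := Commute.list_prod_left _ _ fun z hz => by
    obtain ⟨l, hl, rfl⟩ := List.mem_map.1 hz
    obtain ⟨-, -, h3, h4⟩ := T.gen_inner (hw l hl)
    rw [h4]
    exact (T.C.mem h3).2.2.symm
  have e : b * a * val T.gen (sandwich w [1]) * (b * a)⁻¹ =
      cj b (val T.gen w * cj a b * (val T.gen w)⁻¹) := by
    rw [T.val_sandwich hT hlt, cj_conj hD T.hbD, cj_conj hD T.haD]
    simp only [val, List.map_cons, List.map_nil, List.prod_cons, List.prod_nil, mul_one] at hga ⊢
    rw [T.gen_one]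
    revert hga
    generalize (w.map T.gen).prod = g
    intro hga
    calc b * a * (g * b * g⁻¹) * (b * a)⁻¹ = b * (a * g * b * (g⁻¹ * a⁻¹)) * b⁻¹ := by group
      _ = b * (g * a * b * (a⁻¹ * g⁻¹)) * b⁻¹ := by rw [hga.eq, hga.inv_inv.eq]
      _ = b * (g * (a * b * a⁻¹) * g⁻¹) * b⁻¹ := by group
  rw [e]
  refine (T.root_point hT hw (cj_mem hD T.haD T.hbD) (not_commute_cj hD T.haD T.hab)
    (fun n hn => T.trace_aba hT hn) hok hwit ?_).1
  rw [← e]
  have hall : ∀ l ∈ sandwich [1, 0] (sandwich w [1]), l < 9 := by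
    intro l hl
    simp [sandwich] at hl
    rcases hl with rfl | rfl | hl | rfl | hl | rfl | rfl
    all_goals first | (norm_num; done) | exact hlt _ hl
  have := T.fixed_of_reduces hT (u := [0]) (by simp) hall hms
  rw [T.val_sandwich hT (u := [1, 0]) (by simp)] at this
  simpa [val, gen, mul_assoc] using this

theorem spider_pieces : val T.gen (translWord triW1 0 ++ (translWord triW1 1).reverse ++
      (translWord triW2 0 ++ (translWord triW2 2).reverse)) = 1 ∧
      val T.gen (translWord triW1 0) ^ 3 = 1 := by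
  have hD := T.hS.trans
  obtain ⟨-, -, -, hwe, hwh⟩ := inner_words
  obtain ⟨g, hg⟩ : ∃ g, g = b * a := ⟨_, rfl⟩
  have hE := T.val_third hT hwe rootE (witnesses (Data.we, Data.re) (by simp)) mv_aXE_ok
  have hH := T.val_third hT hwh rootH (witnesses (Data.wh, Data.rh) (by simp)) mv_aXH_ok
  rw [← hg] at hE hH
  have hfix : ∀ l, innerLetter l = true → inK (genCode l) = true → g * T.gen l * g⁻¹ = T.C.el (genCode l) := by
    intro l hl hk
    obtain ⟨-, -, h3, h4⟩ := T.gen_inner hl
    have hc : Commute g (T.C.el (genCode l)) := hg ▸ ((hT _ h3).2 hk).mul_left (T.C.mem h3).2.2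
    rw [h4, hc.eq, mul_inv_cancel_right]
  have hk : ∀ l ∈ [4, 5, 7, 8], innerLetter l = true ∧ inK (genCode l) = true := by decide +kernel
  have hW : ∀ t ∈ [(triW1, tri1), (triW2, tri2)], ∀ i < 3,
      (∀ l ∈ t.1.getD i [], l < 9) ∧ g * val T.gen (t.1.getD i []) * g⁻¹ = T.C.el (t.2.getD i 0) := by
    have hl : ∀ t ∈ [triW1, triW2], ∀ i < 3, ∀ l ∈ t.getD i [], l < 9 := by decide +kernel
    intro t ht i hi
    simp only [List.mem_cons, List.not_mem_nil, or_false] at ht
    rcases ht with rfl | rfl
    · refine ⟨hl _ (by simp) i hi, ?_⟩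
      interval_cases i
      · simpa [triW1, tri1, val] using hfix 4 (hk 4 (by simp)).1 (hk 4 (by simp)).2
      · simpa [triW1, tri1, val] using hfix 5 (hk 5 (by simp)).1 (hk 5 (by simp)).2
      · exact hE
    · refine ⟨hl _ (by simp) i hi, ?_⟩
      interval_cases i
      · simpa [triW2, tri2, val] using hfix 7 (hk 7 (by simp)).1 (hk 7 (by simp)).2
      · simpa [triW2, tri2, val] using hfix 8 (hk 8 (by simp)).1 (hk 8 (by simp)).2
      · exact hH
  have hmap : ∀ t ∈ [(triW1, tri1), (triW2, tri2)], ∀ i,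
      (∀ l ∈ translWord t.1 i, l < 9) ∧ (i < 3 → MulAut.conj g (val T.gen (translWord t.1 i)) =
        ((transl 0 t.2 i).map T.C.el).prod) := by
    intro t ht i
    constructor
    · intro l hl
      have hs : ∀ u ∈ t.1, ∀ l ∈ u, l < 9 := by
        simp only [List.mem_cons, List.not_mem_nil, or_false] at ht
        rcases ht with rfl | rfl <;> decide +kernel
      simp only [translWord, List.mem_flatten, transl, List.mem_cons, List.not_mem_nil, or_false] at hl
      obtain ⟨u, hu, hl⟩ := hl
      have hmem : ∀ k, ∀ l ∈ t.1.getD k [], l < 9 := fun k l hl => by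
        rcases Nat.lt_or_ge k t.1.length with hk | hk
        · rw [List.getD_eq_getElem _ _ hk] at hl; exact hs _ (List.getElem_mem hk) l hl
        · rw [List.getD_eq_default _ _ hk] at hl; simp at hl
      rcases hu with rfl | rfl | rfl | rfl <;> exact hmem _ l hl
    · intro hi
      simp only [translWord, transl, List.flatten_cons, List.flatten_nil, List.append_nil, val_append, map_mul,
        List.map_cons, List.map_nil, List.prod_cons, List.prod_nil, mul_one, MulAut.conj_apply]
      rw [(hW t ht i hi).2, (hW t ht ((i + 1) % 3) (Nat.mod_lt _ (by norm_num))).2,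
        (hW t ht ((i + 2) % 3) (Nat.mod_lt _ (by norm_num))).2]
  have h1 := hmap (triW1, tri1) (by simp)
  have h2 := hmap (triW2, tri2) (by simp)
  refine ⟨(MulEquiv.map_eq_one_iff (MulAut.conj g)).1 ?_, (MulEquiv.map_eq_one_iff (MulAut.conj g)).1 ?_⟩
  · have hz := T.zed_one hT
    rw [List.map_append, List.prod_append, List.map_append, List.prod_append, List.map_append, List.prod_append,
      T.prod_reverse (transl_pts _ (by simp) _ (by norm_num)),
      T.prod_reverse (transl_pts _ (by simp) _ (by norm_num))] at hz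
    rw [val_append, val_append, val_append, (T.coxRel hT).val_reverse (h1 1).1,
      (T.coxRel hT).val_reverse (h2 2).1, map_mul, map_mul, map_mul, map_inv, map_inv, (h1 0).2 (by norm_num),
      (h1 1).2 (by norm_num), (h2 0).2 (by norm_num), (h2 2).2 (by norm_num)]
    exact hz
  · rw [map_pow, (h1 0).2 (by norm_num)]
    exact T.transl_pow (by simp)

theorem rel3 : val T.gen [3, 2, 1, 3, 4, 5, 3, 7, 8] ^ 10 = 1 := by
  obtain ⟨h1, h3⟩ := T.spider_pieces hT
  have hlt : ∀ l ∈ translWord triW1 0, l < 9 := by decide +kernel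
  have hcube : ∀ u, (∀ l ∈ u, l < 9) → val T.gen (cube u (translWord triW1 0)) = 1 ∧
      val T.gen (cube u (translWord triW1 0).reverse) = 1 := by
    intro u hu
    constructor
    · rw [cube, T.val_sandwich hT hu, val_append, val_append, show ∀ x : G, x * x * x = x ^ 3 from
        fun x => by rw [pow_succ, pow_two], h3, mul_one, mul_inv_cancel]
    · rw [cube, T.val_sandwich hT hu, val_append, val_append, (T.coxRel hT).val_reverse hlt,
        show ∀ x : G, x * x * x = x ^ 3 from fun x => by rw [pow_succ, pow_two], inv_pow, h3, inv_one, mul_one,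
        mul_inv_cancel]
  rw [← T.val_rep hT, (T.coxRel hT).eq_of_reduces (w := spiderRHS) (by decide +kernel) mv_spider_ok, spiderRHS,
    val_append, val_append, val_append, val_append, h1, (hcube _ (by decide)).1, (hcube _ (by decide)).1,
    (hcube _ (by decide)).2, (hcube _ (by decide)).2]
  simp

end Frame

end Cfsg.Lib.Fischer.Fi22Recog
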