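import Cfsg.Agent.Lib.Fischer.Fi22Recog.Data

/-!
# The certificates for the trace are correct
-/

set_option autoImplicit false
set_option maxRecDepth 100000

namespace Cfsg.Lib.Fischer.Fi22Recog

open Data

/-- The three further points of a line. -/
def lineRest (m n : Nat) : List Nat := [1, 2, 3].map fun k => normc (addc m (scc k n))

/-- Equality of lists of numbers. -/
def beqList : List Nat → List Nat → Bool
  | [], [] => true
  | a :: l, b :: m => Nat.beq a b && beqList l m
  | _, _ => false

/-- The scaled hyperovals. -/
def hyper (k : Nat) : List Nat := h₀.map (blockScale k)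

theorem hyper_ok : ∀ k ∈ [1, 2, 3], (pairOrth (hyper k) && actZero (hyper k) && distinct (hyper k) &&
    beqList ((hyper k).take 3) (h₀.take 3)) = true := by decide +kernel

theorem hyper_diff : ∀ k ∈ [1, 2, 3], ∀ j ∈ [1, 2, 3], k ≠ j →
    ((hyper k).drop 3).all (fun n => !((hyper j).drop 3).contains n) = true := by decide +kernel

/-- A point can be moved to the first seed by at most two transvections. -/
def moveOK : Nat → Nat → Bool
  | 0, _ => true
  | m + 1, n => (!(isPt n) || Nat.beq n 5 || (!(Nat.beq (formc n 5) 0) && Nat.beq (trp (trp n 5) n) 5) ||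
      cand.any fun q => isPt q && !(Nat.beq (formc n q) 0) && !(Nat.beq (formc q 5) 0) &&
        Nat.beq (trp (trp q 5) (trp (trp n q) n)) 5) && moveOK m (n + 1)

theorem moveOK_all : moveOK 4096 0 = true := by decide +kernel

/-- All choices of one point on each of four lines. -/
def tuples : List (List Nat) :=
  match opts with
  | [p, q, r, s] => p.flatMap fun a => q.flatMap fun b => r.flatMap fun c => s.map fun d => [a, b, c, d]
  | _ => []

theorem frame_ok : ((tuples.zip moves).all fun tw => tw.2.all isPt && Nat.beq (applyW tw.2 5) 5 &&
    beqList (tw.1.map (applyW tw.2)) frame) = true := by decide +kernel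

theorem moves_length : moves.length = tuples.length := by decide +kernel

theorem opts_ok : ((frame.zip opts).all fun eo => isPt eo.1 && Nat.beq (formc 5 eo.1) 0 && !(Nat.beq 5 eo.1) &&
    (eo.1 :: lineRest 5 eo.1).all fun p => eo.2.contains p) = true := by decide +kernel

theorem last_ok : (isPt 13 && Nat.beq (formc 80 13) 0 && (13 :: lineRest 80 13).all fun p => last.contains p) = true := by
  decide +kernel

theorem bad_ok : ∀ b ∈ [bad0, bad1, bad2],
    (isPt b.1 && badTriple (derive h₀ (seeds ++ [b.1]) b.2.1) b.2.2.1 b.2.2.2.1 b.2.2.2.2) = true := by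
  decide +kernel

theorem last_cases : ∀ n ∈ last, n = 13 ∨ n ∈ [bad0, bad1, bad2].map (·.1) := by decide +kernel

/-- The trace of the normalised member. -/
def trace : List Nat := derive h₀ (seeds ++ [13]) steps

theorem trace_mask : (trace.all fun n => Nat.testBit kmask n) = true := by decide +kernel

/-- Every point is in the trace or is listed outside. -/
def coverOK : Nat → Nat → Bool
  | 0, _ => true
  | m + 1, n => (!(isPt n) || (Nat.testBit kmask n && trace.contains n) ||
      (!(Nat.testBit kmask n) && excl.any fun e => Nat.beq e.1 n)) && coverOK m (n + 1)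

theorem coverOK_all : coverOK 4096 0 = true := by decide +kernel

theorem excl_ok : (excl.all fun e => isPt e.1 && Nat.testBit kmask e.2.1 && Nat.testBit kmask e.2.2 &&
    distinct [e.2.1, e.2.2, e.1] && Nat.beq (formc e.2.1 e.2.2) 0 && onLine e.2.1 e.2.2 e.1) = true := by
  decide +kernel

/-- Membership in the trace. -/
def inK (n : Nat) : Bool := Nat.testBit kmask n

theorem kmask_pts : (trace.all isPt) = true := by decide +kernel

end Cfsg.Lib.Fischer.Fi22Recog
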