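import Cfsg.Agent.Lib.Fischer.Fi22Recog.Chart
import Cfsg.Agent.Lib.Fischer.Fi22Recog.TraceChecks

/-!
# The trace of a member outside a neighbourhood in type M(22)

Coordinates can be chosen so that six given points have product one; then a member outside can be conjugated
so that the members commuting with it are the points of one fixed list.
-/

set_option autoImplicit false
set_option linter.unusedSectionVars false
set_option maxRecDepth 100000
set_option exponentiation.threshold 5000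

namespace Cfsg.Lib.Fischer.Fi22Recog

open Module Cfsg Cfsg.Lib.Fischer Cfsg.Lib.Linear.Herm Cfsg.Agent.S1631 Cfsg.Lib.Fischer.RadicalAbelian
open Cfsg.Lib.Fischer.Relations

variable {G : Type*} [Group G] [Finite G] {D : Set G}
  {F : Type} [Field F] [Fintype F] {hF : Fintype.card F = 2 ^ 2}

theorem beqList_eq : ∀ {l m : List ℕ}, beqList l m = true → l = m
  | [], [], _ => rfl
  | [], _ :: _, h => by simp [beqList] at h
  | _ :: _, [], h => by simp [beqList] at h
  | a :: l, b :: m, h => by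
    simp only [beqList, Bool.and_eq_true, Nat.beq_eq] at h
    rw [h.1, beqList_eq h.2]

theorem distinct_nodup : ∀ {l : List ℕ}, distinct l = true → l.Nodup
  | [], _ => List.nodup_nil
  | a :: l, h => by
    simp only [distinct, Bool.and_eq_true, Bool.not_eq_true', List.contains_eq_mem, decide_eq_false_iff_not] at h
    exact List.nodup_cons.2 ⟨h.1, distinct_nodup h.2⟩

namespace Chart

variable {a : G} (C : Chart D a hF) (hS : M22 D hF) (ha : a ∈ D)

theorem pairOrth_spec {l : List ℕ} (h : pairOrth l = true) :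
    (∀ n ∈ l, isPt n = true) ∧ ∀ m ∈ l, ∀ n ∈ l, formc m n = 0 := by
  simp only [pairOrth, List.all_eq_true, Bool.and_eq_true, Nat.beq_eq] at h
  exact ⟨fun n hn => (h n hn).1, fun m hm n hn => (h m hm).2 n hn⟩

theorem commute_list {l : List ℕ} (h : pairOrth l = true) :
    ∀ x ∈ l.map C.el, ∀ y ∈ l.map C.el, Commute x y := by
  obtain ⟨hp, ho⟩ := pairOrth_spec h
  intro x hx y hy
  obtain ⟨m, hm, rfl⟩ := List.mem_map.1 hx
  obtain ⟨n, hn, rfl⟩ := List.mem_map.1 hy
  exact (C.comm (hp m hm) (hp n hn)).2 (ho m hm n hn)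

theorem nodup_list {l : List ℕ} (hp : ∀ n ∈ l, isPt n = true) (hd : l.Nodup) : (l.map C.el).Nodup :=
  hd.map_on fun _ hm _ hn h => C.inj (hp _ hm) (hp _ hn) h

include hS ha

/-- A commuting list with vanishing displacement has product `1` or `a`. -/
theorem prod_cases {l : List ℕ} (ho : pairOrth l = true) (h0 : actZero l = true) :
    (l.map C.el).prod = 1 ∨ (l.map C.el).prod = a :=
  eq_or_eq_of_centralizes hS.fischer hS.data ha hS.prim hS.centre
    (Commute.list_prod_left _ _ fun x hx => by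
      obtain ⟨n, hn, rfl⟩ := List.mem_map.1 hx
      exact (C.mem ((pairOrth_spec ho).1 n hn)).2.2.symm)
    (C.central ho h0)

theorem exists_scale : ∃ k ∈ [1, 2, 3], ((hyper k).map C.el).prod = 1 := by
  classical
  by_contra hno
  push Not at hno
  have hok : ∀ k ∈ [1, 2, 3], pairOrth (hyper k) = true ∧ actZero (hyper k) = true ∧ (hyper k).Nodup ∧
      ((hyper k).map C.el).prod = a ∧ hyper k = Data.h₀.take 3 ++ (hyper k).drop 3 := by
    intro k hk
    have h := hyper_ok k hk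
    simp only [Bool.and_eq_true] at h
    refine ⟨h.1.1.1, h.1.1.2, distinct_nodup h.1.2, ?_, ?_⟩
    · exact (C.prod_cases hS ha h.1.1.1 h.1.1.2).resolve_left (hno k hk)
    · conv_lhs => rw [← List.take_append_drop 3 (hyper k), beqList_eq h.2]
  have h3 : ∀ k ∈ [1, 2, 3], ∀ j ∈ [1, 2, 3],
      (((hyper k).drop 3).map C.el).prod = (((hyper j).drop 3).map C.el).prod := by
    intro k hk j hj
    have e := (hok k hk).2.2.2.1.trans (hok j hj).2.2.2.1.symm
    rw [(hok k hk).2.2.2.2, (hok j hj).2.2.2.2, List.map_append, List.map_append, List.prod_append,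
      List.prod_append] at e
    exact mul_left_cancel e
  have hset : ∀ k ∈ [1, 2, 3], (((hyper k).drop 3).map C.el).Nodup ∧ (((hyper k).drop 3).map C.el).length = 3 ∧
      (∀ x ∈ ((hyper k).drop 3).map C.el, x ∈ D) ∧
      ∀ x ∈ ((hyper k).drop 3).map C.el, ∀ y ∈ ((hyper k).drop 3).map C.el, Commute x y := by
    intro k hk
    obtain ⟨ho, -, hnd, -, -⟩ := hok k hk
    have hsub : ∀ {x}, x ∈ ((hyper k).drop 3).map C.el → x ∈ (hyper k).map C.el := fun {x} hx => by
      obtain ⟨n, hn, rfl⟩ := List.mem_map.1 hx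
      exact List.mem_map_of_mem (List.mem_of_mem_drop hn)
    refine ⟨C.nodup_list (fun n hn => (pairOrth_spec ho).1 n (List.mem_of_mem_drop hn))
      (hnd.sublist (List.drop_sublist _ _)), by simp [hyper, Data.h₀], fun x hx => ?_,
      fun x hx y hy => C.commute_list ho x (hsub hx) y (hsub hy)⟩
    obtain ⟨n, hn, rfl⟩ := List.mem_map.1 hx
    exact C.mem_D ((pairOrth_spec ho).1 n (List.mem_of_mem_drop hn))
  have hdiff : ∀ k ∈ [1, 2, 3], ∀ j ∈ [1, 2, 3], k ≠ j →
      ¬ ∀ x, x ∈ ((hyper k).drop 3).map C.el ↔ x ∈ ((hyper j).drop 3).map C.el := by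
    intro k hk j hj hkj h
    have hne := hyper_diff k hk j hj hkj
    simp only [List.all_eq_true, Bool.not_eq_true', List.contains_eq_mem, decide_eq_false_iff_not] at hne
    obtain ⟨n, t, hn⟩ : ∃ n t, (hyper k).drop 3 = n :: t := by simp [hyper, Data.h₀]
    have hmem : n ∈ (hyper k).drop 3 := by simp [hn]
    obtain ⟨m, hm, e⟩ := List.mem_map.1 ((h (C.el n)).1 (List.mem_map_of_mem hmem))
    refine hne n hmem ?_
    rwa [← C.inj ((pairOrth_spec (hok j hj).1).1 m (List.mem_of_mem_drop hm))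
      ((pairOrth_spec (hok k hk).1).1 n (List.mem_of_mem_drop hmem)) e]
  obtain ⟨p, q, r, hT⟩ : ∃ p q r, ((hyper 1).drop 3).map C.el = [p, q, r] := by simp [hyper, Data.h₀]
  obtain ⟨h1, -, h1D, h1c⟩ := hset 1 (by simp)
  rw [hT] at h1 h1D h1c
  obtain ⟨e, f, g, -, -, hall⟩ := three_exactly_two hS.trans hS.prim hS.centre hS.sep hS.data h1 h1D h1c
  have key : ∀ k ∈ [1, 2, 3], k ≠ 1 → ∀ x, x ∈ ((hyper k).drop 3).map C.el ↔ x ∈ [e, f, g] := by
    intro k hk hk1
    obtain ⟨hn, hl, hD, hc⟩ := hset k hk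
    refine (hall _ hn hl hD hc (by rw [← hT, h3 k hk 1 (by simp)])).resolve_left fun h => ?_
    exact hdiff k hk 1 (by simp) hk1 (fun x => by rw [hT]; exact h x)
  exact hdiff 2 (by simp) 3 (by simp) (by norm_num)
    fun x => (key 2 (by simp) (by norm_num) x).trans (key 3 (by simp) (by norm_num) x).symm

omit hS ha in
theorem exists_rescaled {k : ℕ} (hk : k = 1 ∨ k = 2 ∨ k = 3) :
    ∃ C' : Chart D a hF, ∀ n, isPt n = true → isPt (blockScale k n) = true → C'.el n = C.el (blockScale k n) := by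
  classical
  have hK := fourField hF
  obtain ⟨c, hc⟩ : ∃ c : F, c = C.o.el (conj4 k) := ⟨_, rfl⟩
  have hc0 : c ≠ 0 := by
    rw [hc, Ne, C.o.el_eq_zero (conj4_lt _)]
    rcases hk with rfl | rfl | rfl <;> decide
  have hN : ∀ d : F, d ≠ 0 → frob hF d * d = 1 := fun d hd => by rw [hK.sq]; exact hK.cube d hd
  let s : Fin 6 → F := ![1, 1, 1, 1, c, c]
  have hs : ∀ i, s i ≠ 0 := fun i => by fin_cases i <;> simp [s, hc0]
  let T : (Fin 6 → F) ≃ₗ[F] (Fin 6 → F) :=
    LinearEquiv.piCongrRight fun i => LinearEquiv.smulOfNeZero F F (s i) (hs i)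
  have hT : ∀ x i, T x i = s i * x i := fun x i => rfl
  have hiso : ∀ x y, hB hF 6 (T x) (T y) = hB hF 6 x y := by
    intro x y
    simp only [hB_apply, Cfsg.hermForm, hT, mul_pow]
    refine Finset.sum_congr rfl fun i _ => ?_
    have h2 : s i ^ 2 * s i = 1 := by rw [pow_two]; exact hK.cube _ (hs i)
    linear_combination (y i * x i ^ 2) * h2
  obtain ⟨C', hU, ho⟩ := exists_chart (mapData C.U T hiso) C.o
  refine ⟨C', fun n hn hbn => ?_⟩
  obtain ⟨hx, j, hj, ej⟩ := C.spec _ hbn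
  obtain ⟨m, hm⟩ : ∃ m, m = enc (dig n 0) (dig n 1) (dig n 2) (dig n 3) (mul4 k (dig n 4)) (mul4 k (dig n 5)) :=
    ⟨_, rfl⟩
  have hb : blockScale k n = scc (conj4 (lead m)) m := by rw [hm]; rfl
  have hvec : T (C.o.vec m) = C.o.vec n := by
    funext i
    rw [hT, Omega.vec, hm, dig_enc (dig_lt _ _) (dig_lt _ _) (dig_lt _ _) (dig_lt _ _) (mul4_lt _ _) (mul4_lt _ _)]
    have h45 : ∀ d < 4, c * C.o.el (mul4 k d) = C.o.el d := fun d hd => by
      rw [hc, ← C.o.el_mul (conj4_lt _) (mul4_lt _ _)]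
      congr 1
      rcases hk with rfl | rfl | rfl <;> interval_cases d <;> decide
    fin_cases i <;> simp [s, Omega.vec, h45 _ (dig_lt _ _)]
  refine C'.el_eq_of_smul hx hn (j := j * C.o.el (conj4 (lead m))) ?_
  rw [hU, ho]
  show T (C.U.c _) = _
  rw [ej, hb, C.o.vec_scc (conj4_lt _), map_smul, map_smul, hvec, smul_smul]

theorem exists_based (U : UData (perp D a) (hB hF 6)) (o : Omega hF) :
    ∃ C : Chart D a hF, (Data.h₀.map C.el).prod = 1 := by
  obtain ⟨C₁, -, -⟩ := exists_chart U o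
  obtain ⟨k, hk, hp⟩ := C₁.exists_scale hS ha
  obtain ⟨C', hC'⟩ := C₁.exists_rescaled (k := k) (by simpa using hk)
  refine ⟨C', ?_⟩
  have h := hyper_ok k hk
  simp only [Bool.and_eq_true] at h
  rw [← hp, hyper, List.map_map]
  refine congrArg List.prod (List.map_congr_left fun n hn => hC' n ?_ ?_)
  · revert n; decide +kernel
  · exact (pairOrth_spec h.1.1.1).1 _ (List.mem_map_of_mem hn)

omit ha in
/-- A word acts on the codes as conjugation by its product. -/
theorem word {w : List ℕ} (hw : ∀ y ∈ w, isPt y = true) {n : ℕ} (hn : isPt n = true) :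
    isPt (applyW w n) = true ∧ (w.map C.el).prod * C.el n * (w.map C.el).prod⁻¹ = C.el (applyW w n) := by
  induction w with
  | nil => simp [applyW, hn]
  | cons y t ih =>
    obtain ⟨h1, h2⟩ := ih fun z hz => hw z (by simp [hz])
    have hy := hw y (by simp)
    obtain ⟨h3, h4⟩ := C.conj hS.trans hy h1
    refine ⟨h3, ?_⟩
    rw [applyW, ← h4, ← h2, cj_conj hS.trans (C.mem_D hy), List.map_cons, List.prod_cons]
    group

end Chart

variable {a : G}

/-- A chart with the base hexad and a member outside. -/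
structure Frame (D : Set G) (hF : Fintype.card F = 2 ^ 2) (a b : G) where
  C : Chart D a hF
  hS : M22 D hF
  haD : a ∈ D
  hbD : b ∈ D
  hab : ¬ Commute a b
  hexad : (Data.h₀.map C.el).prod = 1

namespace Frame

variable {b : G} (T : Frame D hF a b)

/-- A code of a member commuting with `b`. -/
def In (n : ℕ) : Prop := isPt n = true ∧ Commute b (T.C.el n)

theorem third {m n : ℕ} (hm : T.In m) (hn : T.In n) : T.In (trp m n) := by
  obtain ⟨h1, h2⟩ := T.C.conj T.hS.trans hm.1 hn.1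
  refine ⟨h1, ?_⟩
  rw [← h2]
  exact (commute_cj_of T.hS.trans (T.C.mem_D hm.1) hm.2.symm).2 hn.2

theorem h0_pts : ∀ n ∈ Data.h₀, isPt n = true := by decide +kernel

theorem h0_nodup : Data.h₀.Nodup := by decide +kernel

/-- A member commuting with three of six members with product one commutes with all. -/
theorem hexad_closed {x : G} (hx : x ∈ D) {w : List ℕ} (hw : ∀ y ∈ w, isPt y = true) {p q r : ℕ}
    (hsub : ∀ n ∈ [p, q, r], n ∈ Data.h₀.map (applyW w)) (hd : [p, q, r].Nodup)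
    (hc : ∀ n ∈ [p, q, r], Commute x (T.C.el n)) :
    ∀ n ∈ Data.h₀.map (applyW w), isPt n = true ∧ Commute x (T.C.el n) := by
  classical
  obtain ⟨g, hg⟩ : ∃ g, g = (w.map T.C.el).prod := ⟨_, rfl⟩
  have hW : ∀ n ∈ Data.h₀, isPt (applyW w n) = true ∧ g * T.C.el n * g⁻¹ = T.C.el (applyW w n) :=
    fun n hn => hg ▸ T.C.word T.hS hw (h0_pts n hn)
  obtain ⟨l, hl⟩ : ∃ l, l = (Data.h₀.map (applyW w)).map T.C.el := ⟨_, rfl⟩
  have hpts : ∀ n ∈ Data.h₀.map (applyW w), isPt n = true := fun n hn => by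
    obtain ⟨m, hm, rfl⟩ := List.mem_map.1 hn
    exact (hW m hm).1
  have hl' : l = (Data.h₀.map T.C.el).map fun z => g * z * g⁻¹ := by
    rw [hl, List.map_map, List.map_map]
    exact List.map_congr_left fun n hn => (hW n hn).2.symm
  have hprod : l.prod = 1 := by rw [hl', prod_conj_list T.hS.trans g, T.hexad, mul_one, mul_inv_cancel]
  have hlD : ∀ z ∈ l, z ∈ D := fun z hz => by
    rw [hl] at hz
    obtain ⟨n, hn, rfl⟩ := List.mem_map.1 hz
    exact T.C.mem_D (hpts n hn)
  have hnd : l.Nodup := hl' ▸ (T.C.nodup_list h0_pts h0_nodup).map fun u v h => by simpa using h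
  have hlc : ∀ z ∈ l, ∀ z' ∈ l, Commute z z' := by
    intro z hz z' hz'
    rw [hl'] at hz hz'
    obtain ⟨u, hu, rfl⟩ := List.mem_map.1 hz
    obtain ⟨v, hv, rfl⟩ := List.mem_map.1 hz'
    exact (Commute.conj_iff g).2 (T.C.commute_list (by decide +kernel) u hu v hv)
  have hsubl : ∀ n ∈ [p, q, r], T.C.el n ∈ l := fun n hn => hl ▸ List.mem_map_of_mem (hsub n hn)
  rcases Relations.pattern T.hS.trans hx hnd hlD hlc (hprod ▸ Commute.one_left x) with h | h
  · intro n hn
    rw [List.length_eq_zero_iff, List.filter_eq_nil_iff] at h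
    exact ⟨hpts n hn, by simpa using h (T.C.el n) (hl ▸ List.mem_map_of_mem hn)⟩
  · exfalso
    have hb : (l.filter fun z => decide (¬ Commute x z)).Nodup := hnd.filter _
    have h3 : ([p, q, r].map T.C.el).Nodup := T.C.nodup_list (fun n hn => hpts n (hsub n hn)) hd
    have hdis : (([p, q, r].map T.C.el) ++ l.filter fun z => decide (¬ Commute x z)).Nodup := by
      refine List.nodup_append.2 ⟨h3, hb, fun u hu v hv e => ?_⟩
      obtain ⟨n, hn, rfl⟩ := List.mem_map.1 hu
      simp only [List.mem_filter, decide_eq_true_eq] at hv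
      exact hv.2 (e ▸ hc n hn)
    have hle := (hdis.subperm (l₂ := l) fun u hu => by
      rcases List.mem_append.1 hu with hu | hu
      · obtain ⟨n, hn, rfl⟩ := List.mem_map.1 hu; exact hsubl n hn
      · exact (List.mem_filter.1 hu).1).length_le
    simp [hl, Data.h₀] at hle h
    omega

theorem derive_sound : ∀ (t : List Step) (L : List ℕ), (∀ n ∈ L, T.In n) →
    ∀ n ∈ derive Data.h₀ L t, T.In n
  | [], L, hL, n, hn => hL n hn
  | s :: t, L, hL, n, hn => by
    refine derive_sound t (L ++ s.out Data.h₀ L) (fun m hm => ?_) n hn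
    rcases List.mem_append.1 hm with hm | hm
    · exact hL m hm
    have hg : ∀ i, i < L.length → T.In (L.getD i 0) := fun i hi => by
      rw [List.getD_eq_getElem L 0 hi]; exact hL _ (List.getElem_mem hi)
    match s with
    | .third i j =>
      dsimp only [Step.out] at hm
      rcases hb : (Nat.blt i L.length && Nat.blt j L.length) with _ | _
      · rw [hb] at hm; simp at hm
      · rw [hb] at hm
        simp only [cond_true, List.mem_singleton] at hm
        simp only [Bool.and_eq_true, Nat.blt_eq] at hb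
        exact hm ▸ T.third (hg i hb.1) (hg j hb.2)
    | .hexad w i j k =>
      dsimp only [Step.out] at hm
      rcases hb : (Nat.blt i L.length && Nat.blt j L.length && Nat.blt k L.length && w.all isPt &&
        (Data.h₀.map (applyW w)).contains (L.getD i 0) && (Data.h₀.map (applyW w)).contains (L.getD j 0) &&
        (Data.h₀.map (applyW w)).contains (L.getD k 0) && distinct [L.getD i 0, L.getD j 0, L.getD k 0])
        with _ | _
      · rw [hb] at hm; simp at hm
      · rw [hb] at hm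
        simp only [cond_true] at hm
        simp only [Bool.and_eq_true, Nat.blt_eq, List.all_eq_true, List.contains_eq_mem, decide_eq_true_eq] at hb
        exact T.hexad_closed T.hbD hb.1.1.1.1.2 (p := L.getD i 0) (q := L.getD j 0) (r := L.getD k 0)
          (List.forall_mem_cons.2 ⟨hb.1.1.1.2, List.forall_mem_cons.2 ⟨hb.1.1.2, List.forall_mem_singleton.2 hb.1.2⟩⟩)
          (distinct_nodup hb.2)
          (List.forall_mem_cons.2 ⟨(hg i hb.1.1.1.1.1.1.1).2, List.forall_mem_cons.2 ⟨(hg j hb.1.1.1.1.1.1.2).2,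
            List.forall_mem_singleton.2 (hg k hb.1.1.1.1.1.2).2⟩⟩) m hm

theorem span_onLine {m n p : ℕ} (hm : isPt m = true) (hn : isPt n = true) (hp : isPt p = true)
    (h : onLine m n p = true) :
    ∃ α β : F, T.C.U.c (T.C.el p) = α • T.C.U.c (T.C.el m) + β • T.C.U.c (T.C.el n) := by
  simp only [onLine, List.any_eq_true, Nat.beq_eq, List.mem_cons, List.not_mem_nil, or_false] at h
  obtain ⟨i, hi, j, hj, e⟩ := h
  obtain ⟨-, k₁, hk₁, e1⟩ := T.C.spec m hm
  obtain ⟨-, k₂, hk₂, e2⟩ := T.C.spec n hn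
  obtain ⟨-, k₃, -, e3⟩ := T.C.spec p hp
  have hi4 : i < 4 := by omega
  have hj4 : j < 4 := by omega
  obtain ⟨c, hc⟩ : ∃ c, c = T.C.o.el (conj4 (lead (addc (scc i m) (scc j n)))) := ⟨_, rfl⟩
  refine ⟨k₃ * c * T.C.o.el i * k₁⁻¹, k₃ * c * T.C.o.el j * k₂⁻¹, ?_⟩
  rw [e3, ← e, normc, T.C.o.vec_scc (conj4_lt _), ← hc, T.C.o.vec_addc, T.C.o.vec_scc hi4,
    T.C.o.vec_scc hj4, e1, e2]
  simp only [smul_add, smul_smul]
  field_simp

theorem five_data {m n : ℕ} (hm : isPt m = true) (hn : isPt n = true) (hne : m ≠ n)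
    (ho : formc m n = 0) : ∃ e f g : G, [T.C.el m, T.C.el n, e, f, g].Nodup ∧
      (∀ x ∈ [T.C.el m, T.C.el n, e, f, g], x ∈ perp D a) ∧
      (∀ x ∈ [T.C.el m, T.C.el n, e, f, g], ∀ y ∈ [T.C.el m, T.C.el n, e, f, g], Commute x y) ∧
      [T.C.el m, T.C.el n, e, f, g].prod = a ∧
      ∀ s ∈ perp D a, (∃ α β : F, T.C.U.c s = α • T.C.U.c (T.C.el m) + β • T.C.U.c (T.C.el n)) →
        s ∈ [T.C.el m, T.C.el n, e, f, g] := by
  have hK := fourField hF
  have hS := hB_isSymm hF 6
  have hND := hB_nondegenerate hF 6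
  have h5 : 5 ≤ finrank F (Fin 6 → F) := by rw [finrank_fin_fun]; norm_num
  obtain ⟨e, f, g, he, hf, hg, hnd, hc, hp, hline⟩ := T.C.U.exists_five hK hS hND h5 (T.C.mem hm) (T.C.mem hn)
    (fun h => hne (T.C.inj hm hn h)) ((T.C.comm hm hn).2 ho)
  have hin : ∀ x ∈ [T.C.el m, T.C.el n, e, f, g], x ∈ perp D a := by simp [T.C.mem hm, T.C.mem hn, he, hf, hg]
  exact ⟨e, f, g, hnd, hin, hc, Relations.line_prod T.hS.trans hK hS hND h5 T.hS.prim T.hS.centre T.hS.sep T.haD
    T.C.U rfl hnd hin hc hp, hline⟩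

/-- Moving between the two neighbourhoods that share a line. -/
theorem swap_five {d m n e f g : G} (hD : Trans D) (hd : d ∈ D) (hnd : [m, n, e, f, g].Nodup)
    (hin : ∀ x ∈ [m, n, e, f, g], x ∈ perp D d)
    (hc : ∀ x ∈ [m, n, e, f, g], ∀ y ∈ [m, n, e, f, g], Commute x y) (hp : [m, n, e, f, g].prod = d) :
    [d, n, e, f, g].Nodup ∧ (∀ x ∈ [d, n, e, f, g], x ∈ perp D m) ∧
      (∀ x ∈ [d, n, e, f, g], ∀ y ∈ [d, n, e, f, g], Commute x y) ∧ [d, n, e, f, g].prod = m := by
  have hm := hin m (by simp)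
  rw [List.nodup_cons] at hnd
  have hrest : ∀ x ∈ [n, e, f, g], x ∈ perp D m := fun x hx =>
    ⟨(hin x (by simp at hx ⊢; tauto)).1, fun h => hnd.1 (h ▸ hx), hc m (by simp) x (by simp at hx ⊢; tauto)⟩
  refine ⟨List.nodup_cons.2 ⟨fun h => (hin d (by simp at h ⊢; tauto)).2.1 rfl, hnd.2⟩, ?_, ?_, ?_⟩
  · intro x hx
    rcases List.mem_cons.1 hx with rfl | hx
    · exact ⟨hd, hm.2.1.symm, hm.2.2.symm⟩
    · exact hrest x hx
  · intro x hx y hy
    rcases List.mem_cons.1 hx with e1 | hx1 <;> rcases List.mem_cons.1 hy with e2 | hy1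
    · rw [e1, e2]
    · rw [e1]; exact (hin y (by simp at hy1 ⊢; tauto)).2.2
    · rw [e2]; exact (hin x (by simp at hx1 ⊢; tauto)).2.2.symm
    · exact hc x (by simp at hx1 ⊢; tauto) y (by simp at hy1 ⊢; tauto)
  · rw [List.prod_cons] at hp ⊢
    have e1 : [n, e, f, g].prod = m * d := by rw [← hp, ← mul_assoc, mul_self hD hm.1, one_mul]
    rw [e1, ← mul_assoc, hm.2.2.eq, mul_assoc, mul_self hD hd, mul_one]

/-- No three members of a trace lie on a line. -/
theorem no_three {x : G} (hxD : x ∈ D) (hax : ¬ Commute a x) {m n p : ℕ} (hm : isPt m = true)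
    (hn : isPt n = true) (hp : isPt p = true) (hd : [m, n, p].Nodup) (ho : formc m n = 0)
    (hl : onLine m n p = true) (h1 : Commute x (T.C.el m)) (h2 : Commute x (T.C.el n))
    (h3 : Commute x (T.C.el p)) : False := by
  have hK := fourField hF
  have hS := hB_isSymm hF 6
  have hND := hB_nondegenerate hF 6
  have h5 : 5 ≤ finrank F (Fin 6 → F) := by rw [finrank_fin_fun]; norm_num
  simp only [List.nodup_cons, List.mem_cons, List.not_mem_nil, or_false, not_or] at hd
  obtain ⟨e, f, g, hnd, hin, hc, hprod, hline⟩ := T.five_data hm hn hd.1.1 ho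
  have hpe := hline _ (T.C.mem hp) (T.span_onLine hm hn hp hl)
  obtain ⟨hnd', hin', hc', hprod'⟩ := swap_five T.hS.trans T.haD hnd hin hc hprod
  obtain ⟨Um⟩ := T.hS.data _ (T.C.mem_D hm)
  have hpmem : T.C.el p ∈ [e, f, g] := by
    simp only [List.mem_cons, List.not_mem_nil, or_false] at hpe ⊢
    rcases hpe with h | h | h
    · exact absurd (T.C.inj hp hm h).symm hd.1.2
    · exact absurd (T.C.inj hp hn h).symm hd.2.1
    · exact h
  have hpm : T.C.el p ∈ perp D (T.C.el m) := hin' _ (by simp at hpmem ⊢; tauto)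
  obtain ⟨α, β, hs⟩ := Um.five_span hK hS hND h5 rfl hnd' hin' hc'
    (fun y hy => by rw [hprod']; exact hy.2.2) hpmem
  have hxp : x ∈ perp D (T.C.el m) := ⟨hxD, fun h => hax (h ▸ (T.C.mem hm).2.2), h1.symm⟩
  have hap : a ∈ perp D (T.C.el m) := hin' a (by simp)
  have hnp : T.C.el n ∈ perp D (T.C.el m) := hin' _ (by simp)
  have hz := (Um.comm x hxp _ hpm).1 h3
  rw [hs, map_add, map_smul, map_smul, (Um.comm x hxp _ hnp).1 h2, smul_zero, add_zero, smul_eq_mul,
    mul_eq_zero] at hz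
  have hα : α = 0 := hz.resolve_right fun h => hax ((Um.comm x hxp a hap).2 h).symm
  rw [hα, zero_smul, zero_add] at hs
  exact hd.2.1 (T.C.inj hn hp (Um.inj _ hnp _ hpm β hs))

/-- On a line through a member of the trace lies another one. -/
theorem exists_on_line {m n : ℕ} (hm : T.In m) (hn : isPt n = true) (hne : m ≠ n) (ho : formc m n = 0) :
    ∃ p ∈ n :: lineRest m n, p ≠ m ∧ T.In p := by
  by_cases hbn : Commute b (T.C.el n)
  · exact ⟨n, by simp, hne.symm, hn, hbn⟩
  have hK := fourField hF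
  have hS := hB_isSymm hF 6
  have hND := hB_nondegenerate hF 6
  have h5 : 5 ≤ finrank F (Fin 6 → F) := by rw [finrank_fin_fun]; norm_num
  obtain ⟨Um⟩ := T.hS.data _ (T.C.mem_D hm.1)
  have hbp : b ∈ perp D (T.C.el m) := ⟨T.hbD, fun h => T.hab (h ▸ (T.C.mem hm.1).2.2), hm.2.symm⟩
  have hmem := T.C.mem hm.1
  have hnmem := T.C.mem hn
  have hcmn := (T.C.comm hm.1 hn).2 ho
  have hap : a ∈ perp D (T.C.el m) := ⟨T.haD, hmem.2.1.symm, hmem.2.2.symm⟩
  have hnp : T.C.el n ∈ perp D (T.C.el m) := ⟨hnmem.1, fun h => hne (T.C.inj hn hm.1 h).symm, hcmn⟩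
  have hbn0 : hB hF 6 (Um.c b) (Um.c (T.C.el n)) ≠ 0 := fun h => hbn ((Um.comm b hbp _ hnp).2 h)
  obtain ⟨k, hk⟩ : ∃ k : F, k = -(hB hF 6 (Um.c b) (Um.c a) / hB hF 6 (Um.c b) (Um.c (T.C.el n))) := ⟨_, rfl⟩
  have han : hB hF 6 (Um.c a) (Um.c (T.C.el n)) = 0 := (Um.comm a hap _ hnp).1 hnmem.2.2
  have hna : hB hF 6 (Um.c (T.C.el n)) (Um.c a) = 0 := hS.isRefl _ _ han
  have hbv : hB hF 6 (Um.c b) (Um.c a + k • Um.c (T.C.el n)) = 0 := by
    rw [map_add, map_smul, smul_eq_mul, hk]; field_simp; ring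
  have hv0 : Um.c a + k • Um.c (T.C.el n) ≠ 0 := fun h => by
    have e : Um.c a = -k • Um.c (T.C.el n) := by rw [neg_smul]; exact eq_neg_of_add_eq_zero_left h
    exact hnmem.2.1 (Um.inj _ hnp a hap _ e)
  obtain ⟨x, hx, j, hj, hxc⟩ := Um.every _ (by simp [Um.iso a hap, Um.iso _ hnp, han, hna]) hv0
  have hbx : Commute b x := (Um.comm b hbp x hx).2 (by rw [hxc, map_smul, hbv, smul_zero])
  obtain ⟨e, f, g, he, hf, hg, hnd, hc, hp, hline⟩ :=
    Um.exists_five hK hS hND h5 hap hnp hnmem.2.1.symm hnmem.2.2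
  have hin : ∀ z ∈ [a, T.C.el n, e, f, g], z ∈ perp D (T.C.el m) := by simp [hap, hnp, he, hf, hg]
  have hprod := Relations.line_prod T.hS.trans hK hS hND h5 T.hS.prim T.hS.centre T.hS.sep (T.C.mem_D hm.1)
    Um (b := a) (t := [T.C.el n, e, f, g]) rfl hnd hin hc hp
  obtain ⟨hnd', hin', hc', hprod'⟩ := swap_five T.hS.trans (T.C.mem_D hm.1) hnd hin hc hprod
  have hxl := hline x hx ⟨j, j * k, by rw [hxc, smul_add, smul_smul]⟩
  have hxmem : x ∈ [e, f, g] := by
    simp only [List.mem_cons, List.not_mem_nil, or_false] at hxl ⊢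
    rcases hxl with h | h | h
    · exact absurd (h ▸ hbx).symm T.hab
    · exact absurd (h ▸ hbx) hbn
    · exact h
  obtain ⟨α, β, hs⟩ := T.C.U.five_span hK hS hND h5 rfl hnd' hin' hc'
    (fun y hy => by rw [hprod']; exact hy.2.2) hxmem
  have hxa : x ∈ perp D a := hin' x (by simp at hxmem ⊢; tauto)
  obtain ⟨-, k₁, hk₁, e1⟩ := T.C.spec m hm.1
  obtain ⟨-, k₂, hk₂, e2⟩ := T.C.spec n hn
  have hxm : x ≠ T.C.el m := hx.2.1
  have hα : α ≠ 0 := fun h => hbn (by
    rw [h, zero_smul, zero_add] at hs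
    rwa [T.C.U.inj _ hnmem x hxa β hs])
  have hβ : β ≠ 0 := fun h => hxm (by
    rw [h, zero_smul, add_zero] at hs
    exact (T.C.U.inj _ hmem x hxa α hs).symm)
  obtain ⟨i, hi, hie⟩ := T.C.o.el_surj ((α * k₁)⁻¹ * (β * k₂))
  have hi0 : i ≠ 0 := fun h0 => by
    rw [h0, (T.C.o.el_eq_zero (by norm_num)).2 rfl] at hie
    exact mul_ne_zero (inv_ne_zero (mul_ne_zero hα hk₁)) (mul_ne_zero hβ hk₂) hie.symm
  obtain ⟨hp1, hp2⟩ := T.C.el_normc hxa (addc_lt m (scc i n)) (j := α * k₁) (by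
    rw [hs, e1, e2, T.C.o.vec_addc, T.C.o.vec_scc hi, smul_smul, smul_smul, hie, smul_add, smul_smul,
      ← mul_assoc (α * k₁), mul_inv_cancel₀ (mul_ne_zero hα hk₁), one_mul])
  refine ⟨_, List.mem_cons_of_mem _ ?_, fun h => hxm (by rw [← hp2, h]), hp1, hp2 ▸ hbx⟩
  simp only [lineRest, List.map_cons, List.map_nil, List.mem_cons, List.not_mem_nil, or_false]
  obtain rfl | rfl | rfl : i = 1 ∨ i = 2 ∨ i = 3 := by omega
  all_goals simp

/-- Conjugating the member outside by a word. -/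
theorem move {w : List ℕ} (hw : ∀ y ∈ w, isPt y = true) : ∃ (b' : G) (T' : Frame D hF a b'),
    T'.C = T.C ∧ ∀ n, T.In n → T'.In (applyW w n) := by
  obtain ⟨g, hg⟩ : ∃ g, g = (w.map T.C.el).prod := ⟨_, rfl⟩
  have hga : g * a * g⁻¹ = a := by
    have : Commute g a := hg ▸ Commute.list_prod_left _ _ fun x hx => by
      obtain ⟨n, hn, rfl⟩ := List.mem_map.1 hx
      exact (T.C.mem (hw n hn)).2.2.symm
    rw [this.eq, mul_inv_cancel_right]
  refine ⟨g * b * g⁻¹, ⟨T.C, T.hS, T.haD, T.hS.trans.conj g b T.hbD, fun h => T.hab ?_, T.hexad⟩, rfl,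
    fun n hn => ?_⟩
  · rw [← hga] at h
    exact (Commute.conj_iff g).1 h
  · obtain ⟨h1, h2⟩ := T.C.word T.hS hw hn.1
    refine ⟨h1, ?_⟩
    show Commute _ (T.C.el _)
    rw [← h2, ← hg]
    exact (Commute.conj_iff g).2 hn.2

/-- Some code is in the trace. -/
theorem exists_in : ∃ n, T.In n := by
  obtain ⟨y, hy⟩ := common_nonempty T.hS.fischer T.haD T.hbD T.hab
  obtain ⟨n, hn, rfl⟩ := T.C.surj hy.1
  exact ⟨n, hn, hy.2⟩

theorem to_seed : ∃ (b' : G) (T' : Frame D hF a b'), T'.C = T.C ∧ T'.In 5 := by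
  obtain ⟨n, hn⟩ := T.exists_in
  have h := moveOK_get n hn.1
  have hb : ∀ q, isPt q = true → ∀ m, isPt m = true → isPt (trp q m) = true :=
    fun q hq m hm => (T.C.conj T.hS.trans hq hm).1
  have h5 : isPt 5 = true := by decide +kernel
  rcases h with h | h | ⟨q, hq, h⟩
  · exact ⟨b, T, rfl, h ▸ hn⟩
  · obtain ⟨b', T', e, h'⟩ := T.move (w := [trp n 5]) (by simp [hb n hn.1 5 h5])
    exact ⟨b', T', e, h ▸ h' n hn⟩
  · obtain ⟨b', T', e, h'⟩ := T.move (w := [trp q 5, trp n q]) (by simp [hb q hq 5 h5, hb n hn.1 q hq])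
    exact ⟨b', T', e, h ▸ h' n hn⟩
where
  moveOK_get (n : ℕ) (hn : isPt n = true) : n = 5 ∨ applyW [trp n 5] n = 5 ∨
      ∃ q, isPt q = true ∧ applyW [trp q 5, trp n q] n = 5 := by
    have key : ∀ (m s : ℕ), moveOK m s = true → ∀ j, s ≤ j → j < s + m → isPt j = true →
        j = 5 ∨ applyW [trp j 5] j = 5 ∨ ∃ q, isPt q = true ∧ applyW [trp q 5, trp j q] j = 5 := by
      intro m
      induction m with
      | zero => intro s _ j h1 h2; omega
      | succ m ih =>
        intro s h j h1 h2 hj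
        rw [moveOK, Bool.and_eq_true] at h
        by_cases hjs : j = s
        · subst hjs
          simp only [hj, Bool.not_true, Bool.false_or, Bool.or_eq_true, Bool.and_eq_true, List.any_eq_true,
            Nat.beq_eq] at h
          rcases h.1 with (h | h) | ⟨q, -, h⟩
          exacts [Or.inl h, Or.inr (Or.inl h.2), Or.inr (Or.inr ⟨q, h.1.1.1, h.2⟩)]
        · exact ih (s + 1) h.2 j (by omega) (by omega) hj
    exact key 4096 0 moveOK_all n (Nat.zero_le _) (by have := (isPt_spec hn).2.1; omega) hn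

theorem to_seeds (h5 : T.In 5) : ∃ (b' : G) (T' : Frame D hF a b'), T'.C = T.C ∧ ∀ n ∈ Data.seeds, T'.In n := by
  have hch : ∀ eo ∈ Data.frame.zip Data.opts, ∃ p ∈ eo.2, T.In p := by
    intro eo heo
    have h := opts_ok
    simp only [List.all_eq_true, Bool.and_eq_true, Bool.not_eq_true', Nat.beq_eq, List.contains_eq_mem,
      decide_eq_true_eq] at h
    obtain ⟨⟨⟨h1, h2⟩, h3⟩, h4⟩ := h eo heo
    obtain ⟨p, hp, -, hpT⟩ := T.exists_on_line h5 h1 (by simpa [← Bool.not_eq_true, Nat.beq_eq] using h3) h2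
    exact ⟨p, h4 p hp, hpT⟩
  obtain ⟨p, q, r, s, ht⟩ : ∃ p q r s, (T.In p ∧ T.In q ∧ T.In r ∧ T.In s) ∧ [p, q, r, s] ∈ tuples := by
    obtain ⟨⟨p, hp, hp'⟩, ⟨q, hq, hq'⟩, ⟨r, hr, hr'⟩, ⟨s, hs, hs'⟩⟩ :
        (∃ p ∈ Data.opts.getD 0 [], T.In p) ∧ (∃ p ∈ Data.opts.getD 1 [], T.In p) ∧
          (∃ p ∈ Data.opts.getD 2 [], T.In p) ∧ ∃ p ∈ Data.opts.getD 3 [], T.In p :=
      ⟨hch (Data.frame.getD 0 0, _) (by simp [Data.frame, Data.opts]),
        hch (Data.frame.getD 1 0, _) (by simp [Data.frame, Data.opts]),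
        hch (Data.frame.getD 2 0, _) (by simp [Data.frame, Data.opts]),
        hch (Data.frame.getD 3 0, _) (by simp [Data.frame, Data.opts])⟩
    refine ⟨p, q, r, s, ⟨hp', hq', hr', hs'⟩, ?_⟩
    simp only [Data.opts, List.getD_cons_zero, List.getD_cons_succ] at hp hq hr hs
    simp only [tuples, Data.opts, List.mem_flatMap, List.mem_map]
    exact ⟨p, hp, q, hq, r, hr, s, hs, rfl⟩
  obtain ⟨ht, hmem⟩ := ht
  obtain ⟨i, hi, hget⟩ := List.getElem_of_mem hmem
  have hi' : i < Data.moves.length := by rw [moves_length]; exact hi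
  have hok := frame_ok
  simp only [List.all_eq_true, Bool.and_eq_true, Nat.beq_eq] at hok
  obtain ⟨⟨hw, hfix⟩, hmap⟩ := hok ([p, q, r, s], Data.moves[i]) (by
    exact List.mem_iff_getElem.2 ⟨i, by rw [List.length_zip]; omega, by rw [List.getElem_zip, hget]⟩)
  obtain ⟨w, hwdef⟩ : ∃ w, w = Data.moves[i] := ⟨_, rfl⟩
  dsimp only at hw hfix hmap
  rw [← hwdef] at hw hfix hmap
  obtain ⟨b', T', e, h'⟩ := T.move hw
  refine ⟨b', T', e, fun n hn => ?_⟩
  have hseeds : Data.seeds = 5 :: Data.frame := by decide +kernel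
  rw [hseeds, ← beqList_eq hmap] at hn
  simp only [List.map_cons, List.map_nil, List.mem_cons, List.not_mem_nil, or_false] at hn
  rcases hn with rfl | rfl | rfl | rfl | rfl
  · exact hfix ▸ h' 5 h5
  · exact h' p ht.1
  · exact h' q ht.2.1
  · exact h' r ht.2.2.1
  · exact h' s ht.2.2.2

theorem trace_eq (h : ∀ n ∈ Data.seeds, T.In n) :
    ∀ n, isPt n = true → (Commute b (T.C.el n) ↔ inK n = true) := by
  have h13 : T.In 13 := by
    have hl := last_ok
    simp only [Bool.and_eq_true, Nat.beq_eq, List.all_eq_true, List.contains_eq_mem, decide_eq_true_eq] at hl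
    obtain ⟨p, hp, -, hpT⟩ := T.exists_on_line (h 80 (by decide +kernel)) hl.1.1 (by norm_num) hl.1.2
    rcases last_cases p (hl.2 p hp) with rfl | hb
    · exact hpT
    · exfalso
      obtain ⟨bd, hbd, rfl⟩ := List.mem_map.1 hb
      have hok := bad_ok bd hbd
      simp only [badTriple, Bool.and_eq_true, List.contains_eq_mem, decide_eq_true_eq, Nat.beq_eq] at hok
      obtain ⟨-, ⟨⟨⟨⟨h1, h2⟩, h3⟩, hd⟩, ho⟩, hl⟩ := hok
      have hin : ∀ m ∈ derive Data.h₀ (Data.seeds ++ [bd.1]) bd.2.1, T.In m :=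
        T.derive_sound _ _ (by
          intro m hm
          rcases List.mem_append.1 hm with hm | hm
          · exact h m hm
          · rw [List.mem_singleton.1 hm]; exact hpT)
      exact T.no_three T.hbD T.hab (hin _ h1).1 (hin _ h2).1 (hin _ h3).1 (distinct_nodup hd) ho hl
        (hin _ h1).2 (hin _ h2).2 (hin _ h3).2
  have hin : ∀ m ∈ trace, T.In m := T.derive_sound _ _ (by
    intro m hm
    rcases List.mem_append.1 hm with hm | hm
    · exact h m hm
    · rw [List.mem_singleton.1 hm]; exact h13)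
  have hcov : ∀ n, isPt n = true → (inK n = true ∧ n ∈ trace) ∨
      (inK n = false ∧ ∃ e ∈ Data.excl, e.1 = n) := by
    have key : ∀ (m s : ℕ), coverOK m s = true → ∀ j, s ≤ j → j < s + m → isPt j = true →
        (inK j = true ∧ j ∈ trace) ∨ (inK j = false ∧ ∃ e ∈ Data.excl, e.1 = j) := by
      intro m
      induction m with
      | zero => intro s _ j h1 h2; omega
      | succ m ih =>
        intro s h j h1 h2 hj
        rw [coverOK, Bool.and_eq_true] at h
        by_cases hjs : j = s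
        · subst hjs
          simp only [hj, Bool.not_true, Bool.false_or, Bool.or_eq_true, Bool.and_eq_true, Bool.not_eq_true',
            List.contains_eq_mem, decide_eq_true_eq, List.any_eq_true, Nat.beq_eq] at h
          exact h.1
        · exact ih (s + 1) h.2 j (by omega) (by omega) hj
    exact fun n hn => key 4096 0 coverOK_all n (Nat.zero_le _) (by have := (isPt_spec hn).2.1; omega) hn
  have hK : ∀ m, isPt m = true → inK m = true → T.In m := fun m hm hmk => by
    rcases hcov m hm with ⟨-, h'⟩ | ⟨h', -⟩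
    · exact hin m h'
    · rw [h'] at hmk; exact absurd hmk (by simp)
  intro n hn
  rcases hcov n hn with ⟨h1, h2⟩ | ⟨h1, e, he, rfl⟩
  · simp [h1, (hin n h2).2]
  · simp only [h1, Bool.false_eq_true, iff_false]
    intro hc
    have hx := excl_ok
    simp only [List.all_eq_true, Bool.and_eq_true, Nat.beq_eq] at hx
    obtain ⟨⟨⟨⟨⟨-, hp⟩, hq⟩, hd⟩, ho⟩, hl⟩ := hx e he
    have hpt : ∀ m, Nat.testBit Data.kmask m = true → isPt m = true := fun m hm => kmask_isPt m hm
    exact T.no_three T.hbD T.hab (hpt _ hp) (hpt _ hq) hn (distinct_nodup hd) ho hl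
      (hK _ (hpt _ hp) hp).2 (hK _ (hpt _ hq) hq).2 hc
where
  kmask_isPt (m : ℕ) (hm : Nat.testBit Data.kmask m = true) : isPt m = true := by
    have hlt : m < 4096 := by
      by_contra hcon
      have hb : Data.kmask < 2 ^ 4096 := by decide +kernel
      rw [Nat.testBit_lt_two_pow (lt_of_lt_of_le hb (Nat.pow_le_pow_right (by norm_num) (by omega)))] at hm
      exact Bool.false_ne_true hm
    revert hm
    revert m
    decide +kernel

/-- A member outside with standard trace. -/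
theorem exists_standard : ∃ (b' : G) (T' : Frame D hF a b'), T'.C = T.C ∧
    ∀ n, isPt n = true → (Commute b' (T'.C.el n) ↔ inK n = true) := by
  obtain ⟨b₁, T₁, e₁, h₁⟩ := T.to_seed
  obtain ⟨b₂, T₂, e₂, h₂⟩ := T₁.to_seeds h₁
  exact ⟨b₂, T₂, e₂.trans e₁, T₂.trace_eq h₂⟩

end Frame

/-- A member, a member outside it, and standard coordinates. -/
theorem exists_frame (hS : M22 D hF) {a : G} (ha : a ∈ D) : ∃ (b : G) (T : Frame D hF a b),
    ∀ n, isPt n = true → (Commute b (T.C.el n) ↔ inK n = true) := by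
  obtain ⟨U⟩ := hS.data a ha
  obtain ⟨o⟩ := exists_omega hF
  obtain ⟨C, hC⟩ := Chart.exists_based hS ha U o
  obtain ⟨b, hb, hab⟩ := Fischer.exists_noncommuting hS.trans hS.prim.2.1 ha
  obtain ⟨b', T', -, h⟩ := Frame.exists_standard ⟨C, hS, ha, hb, hab, hC⟩
  exact ⟨b', T', h⟩

end Cfsg.Lib.Fischer.Fi22Recog
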